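import Groth.Agent.RamSam24.Core
import Groth.Agent.InvUfdLib.Trivial
import Groth.Agent.ZeroSchX.Basic
import Groth.Agent.QCoh.Qcqs

/-!
# The ring `A⟦T⟧` is parafactorial when `A` is complete of depth at least two
-/

set_option autoImplicit false
set_option backward.isDefEq.respectTransparency false
set_option backward.isDefEq.respectTransparency.types false
set_option linter.style.haveILetI false
universe u

open CategoryTheory AlgebraicGeometry IsLocalRing TopologicalSpace Polynomial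
open Groth.Agent.AModX Groth.Agent.InvX

namespace Groth.Agent.RamSam24

/-- An element lying in a principal ideal at all primes off `f` lies in it after multiplying by a power of `f`. -/
theorem exists_pow_mul_mem {R : Type u} [CommRing R] (f x y : R)
    (h : ∀ P : PrimeSpectrum R, f ∉ P.asIdeal →
      algebraMap R (Localization.AtPrime P.asIdeal) x ∈ Ideal.span {algebraMap R (Localization.AtPrime P.asIdeal) y}) :
    ∃ (n : ℕ) (c : R), f ^ n * x = c * y := by
  let T : Ideal R := (Ideal.span {y}).colon {x}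
  have hT : ∀ a, a ∈ T ↔ a * x ∈ Ideal.span {y} := fun a => by simp [T, Submodule.mem_colon_singleton]
  have hf : f ∈ T.radical := by
    rw [Ideal.radical_eq_sInf]
    refine Submodule.mem_sInf.2 fun P ⟨hP, hPp⟩ => ?_
    by_contra hfP
    haveI := hPp
    have h1 : algebraMap R (Localization.AtPrime P) x ∈ (Ideal.span {y}).map (algebraMap R (Localization.AtPrime P)) := by
      rw [Ideal.map_span, Set.image_singleton]; exact h ⟨P, hPp⟩ hfP
    obtain ⟨s, hs, hsx⟩ := (IsLocalization.algebraMap_mem_map_algebraMap_iff (Ideal.primeCompl P) _ _ _).1 h1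
    exact hs (hP ((hT s).2 hsx))
  obtain ⟨n, hn⟩ := hf
  obtain ⟨c, hc⟩ := Ideal.mem_span_singleton'.1 ((hT _).1 hn)
  exact ⟨n, c, hc.symm⟩

variable {A : Type u} [CommRing A] [IsNoetherianRing A] [IsLocalRing A] [IsAdicComplete (maximalIdeal A) A]

/-- Local generators of an invertible ideal on the punctured spectrum come from one series, which is a
non zero divisor after inverting each of the elements of the cover. -/
theorem exists_global (hd : (2 : ℕ∞) ≤ LocCoh.depth A A) {K : Type u} [Fintype K]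
    (f r : K → PowerSeries A) (hfm : ∀ k, f k ∈ maximalIdeal (PowerSeries A)) (hcov : ∀ P : PrimeSpectrum (PowerSeries A), P ≠ closedPoint _ → ∃ k, f k ∉ P.asIdeal)
    (hcomp : ∀ k l, ∃ (M : ℕ) (c : PowerSeries A), (f k * f l) ^ M * r l = c * r k)
    (k₀ : K) (hk₀ : (f k₀).map (residue A) ≠ 0) (hunit : ∃ m m' : ℕ, f k₀ ^ m * r k₀ = f k₀ ^ m') :
    ∃ χ D : PowerSeries A, IsLeftRegular D ∧ ∀ k,
      (∃ (n : ℕ) (c : PowerSeries A), f k ^ n * r k = c * χ) ∧
      (∃ (n : ℕ) (c : PowerSeries A), f k ^ n * χ = c * r k) ∧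
      (∃ (n : ℕ) (c : PowerSeries A), f k ^ n * D = c * r k) := by
  classical
  let R := PowerSeries A
  let J : Ideal R :=
    { carrier := {x | ∀ k, ∃ (n : ℕ) (c : R), f k ^ n * x = c * r k}
      add_mem' := by
        intro x y hx hy k
        obtain ⟨n, c, e⟩ := hx k
        obtain ⟨n', c', e'⟩ := hy k
        exact ⟨n + n', c * f k ^ n' + c' * f k ^ n, by linear_combination f k ^ n' * e + f k ^ n * e'⟩
      zero_mem' := fun k => ⟨0, 0, by simp⟩
      smul_mem' := by
        intro a x hx k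
        obtain ⟨n, c, e⟩ := hx k
        exact ⟨n, a * c, by simp only [smul_eq_mul]; linear_combination a * e⟩ }
  have hmem : ∀ x, x ∈ J ↔ ∀ k, ∃ (n : ℕ) (c : R), f k ^ n * x = c * r k := fun x => Iff.rfl
  choose M c hMc using hcomp
  have hrJ : ∀ k, ∃ N, f k ^ N * r k ∈ J := fun k => by
    refine ⟨Finset.univ.sup (fun l => M l k), (hmem _).2 fun l => ?_⟩
    obtain ⟨j, hj⟩ := Nat.exists_eq_add_of_le (Finset.le_sup (f := fun l => M l k) (Finset.mem_univ l))
    refine ⟨M l k, c l k * f k ^ j, ?_⟩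
    have h1 := hMc l k
    rw [mul_pow] at h1
    rw [hj, pow_add]
    linear_combination f k ^ j * h1
  have hJm : ¬ J ≤ (maximalIdeal A).map (PowerSeries.C : A →+* PowerSeries A) := fun hle => by
    obtain ⟨m, m', hm⟩ := hunit
    obtain ⟨N, hN⟩ := hrJ k₀
    have h1 : f k₀ ^ (N + m') ∈ J := by
      have := J.mul_mem_left (f k₀ ^ m) hN
      rwa [show f k₀ ^ m * (f k₀ ^ N * r k₀) = f k₀ ^ (N + m') by rw [pow_add, ← hm]; ring] at this
    have hker : (maximalIdeal A).map (PowerSeries.C : A →+* PowerSeries A) ≤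
        RingHom.ker (PowerSeries.map (residue A)) :=
      Ideal.map_le_iff_le_comap.2 fun a ha => by
        rw [Ideal.mem_comap, RingHom.mem_ker, PowerSeries.map_C, (residue_eq_zero_iff a).2 ha, map_zero]
    have h2 := RingHom.mem_ker.1 (hker (hle h1))
    rw [map_pow] at h2
    exact hk₀ (pow_eq_zero_iff'.1 h2).1
  have hJP : ∀ (P : PrimeSpectrum R) (k : K), f k ∉ P.asIdeal →
      J.map (algebraMap R (Localization.AtPrime P.asIdeal)) =
        Ideal.span {algebraMap R (Localization.AtPrime P.asIdeal) (r k)} := by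
    intro P k hk
    have hu : ∀ n, IsUnit (algebraMap R (Localization.AtPrime P.asIdeal) (f k ^ n)) := fun n =>
      IsLocalization.map_units (M := P.asIdeal.primeCompl) _ ⟨_, fun h => hk (P.isPrime.mem_of_pow_mem n h)⟩
    refine le_antisymm (Ideal.map_le_iff_le_comap.2 fun x hx => ?_) ((Ideal.span_singleton_le_iff_mem _).2 ?_)
    · obtain ⟨n, c', e⟩ := (hmem x).1 hx k
      rw [Ideal.mem_comap]
      refine (Ideal.unit_mul_mem_iff_mem _ (hu n)).1 ?_
      rw [← map_mul, e, map_mul]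
      exact Ideal.mul_mem_left _ _ (Ideal.mem_span_singleton_self _)
    · obtain ⟨N, hN⟩ := hrJ k
      have := Ideal.mem_map_of_mem (algebraMap R (Localization.AtPrime P.asIdeal)) hN
      rw [map_mul] at this
      exact (Ideal.unit_mul_mem_iff_mem _ (hu N)).1 this
  have hloc : ∀ P : PrimeSpectrum R, P ≠ closedPoint R →
      (J.map (algebraMap R (Localization.AtPrime P.asIdeal))).IsPrincipal := fun P hP => by
    obtain ⟨k, hk⟩ := hcov P hP
    exact ⟨⟨_, hJP P k hk⟩⟩
  obtain ⟨χ, hχ⟩ := exists_generator J hJm hloc hd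
  obtain ⟨D, hD, hDJ⟩ := exists_distinguished J hJm
  have hreg : IsLeftRegular (D : R) := isLeftRegular_of_non_zero_divisor _ fun g hg =>
    (PowerSeries.IsWeierstrassDivisorAt.eq_zero_of_mul_eq (q := g) (r := (0 : A[X]))
      (hD.isWeierstrassDivisorAt (maximalIdeal.isMaximal A).ne_top)
      (by rw [Polynomial.degree_zero]; exact WithBot.bot_lt_coe _) (by rw [hg, Polynomial.coe_zero])).1
  refine ⟨χ, D, hreg, fun k => ⟨exists_pow_mul_mem _ _ _ fun P hP => ?_, exists_pow_mul_mem _ _ _ fun P hP => ?_,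
    (hmem _).1 hDJ k⟩⟩
  · rw [← hχ P (fun e => hP (e ▸ hfm k)), hJP P k hP]
    exact Ideal.mem_span_singleton_self _
  · rw [← hJP P k hP, hχ P (fun e => hP (e ▸ hfm k))]
    exact Ideal.mem_span_singleton_self _

omit [IsAdicComplete (maximalIdeal A) A] in
/-- Power series over a ring of depth at least two have depth at least two. -/
theorem two_le_depth_powerSeries (hd : (2 : ℕ∞) ≤ LocCoh.depth A A) :
    (2 : ℕ∞) ≤ LocCoh.depth (PowerSeries A) (PowerSeries A) := by
  have h1 := (Alg6.two_le_depth_iff' (R := A) (M := A)).1 hd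
  obtain ⟨a, ha, hreg⟩ := (Alg6.exists_isSMulRegular_mem_iff (M := A) (maximalIdeal A)).mpr
    (fun p hp hle => h1.1 (by
      rwa [(maximalIdeal.isMaximal A).eq_of_le (IsAssociatedPrime.isPrime hp).ne_top hle]))
  have hCm : PowerSeries.C a ∈ maximalIdeal (PowerSeries A) := by
    rw [IsLocalRing.mem_maximalIdeal, mem_nonunits_iff, PowerSeries.isUnit_iff_constantCoeff,
      PowerSeries.constantCoeff_C]
    exact (IsLocalRing.mem_maximalIdeal _).1 ha
  have hCreg : IsSMulRegular (PowerSeries A) (PowerSeries.C a) := fun x y h => by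
    ext n
    have h2 := congrArg (PowerSeries.coeff n) h
    simp only [smul_eq_mul, PowerSeries.coeff_C_mul] at h2
    exact hreg h2
  refine (Alg6.two_le_depth_iff hCm hCreg).2 fun hass => ?_
  obtain ⟨-, z, hz⟩ := Alg6.mem_ass_iff.1 hass
  obtain ⟨z, rfl⟩ := Submodule.Quotient.mk_surjective _ z
  have hX : (PowerSeries.X : PowerSeries A) ∈ maximalIdeal (PowerSeries A) := by
    rw [IsLocalRing.mem_maximalIdeal, mem_nonunits_iff, PowerSeries.isUnit_iff_constantCoeff,
      PowerSeries.constantCoeff_X]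
    exact not_isUnit_zero
  have h2 := (hz _).1 hX
  rw [← Submodule.Quotient.mk_smul, Submodule.Quotient.mk_eq_zero, Submodule.mem_smul_pointwise_iff_exists] at h2
  obtain ⟨w, -, hw⟩ := h2
  refine (maximalIdeal.isMaximal (PowerSeries A)).ne_top ((Ideal.eq_top_iff_one _).2 ((hz 1).2 ?_))
  rw [one_smul, Submodule.Quotient.mk_eq_zero, Submodule.mem_smul_pointwise_iff_exists]
  refine ⟨PowerSeries.mk fun n => PowerSeries.coeff (n + 1) w, trivial, ?_⟩
  ext n
  have h3 := congrArg (PowerSeries.coeff (n + 1)) hw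
  simp only [smul_eq_mul, PowerSeries.coeff_C_mul, PowerSeries.coeff_succ_X_mul] at h3 ⊢
  rw [PowerSeries.coeff_mk, h3]

noncomputable section Sheaf

variable (R : Type u) [CommRing R] [IsLocalRing R]

attribute [local instance] secAlg

/-- Elements of the ring as functions on an open of the punctured spectrum. -/
def rho (V : (FEt.puncturedSpec R).toScheme.Opens) : R →+* Γ((FEt.puncturedSpec R).toScheme, V) :=
  algebraMap R Γ(Spec (CommRingCat.of R), (FEt.puncturedSpec R).ι ''ᵁ V)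

theorem resR_rho {V V' : (FEt.puncturedSpec R).toScheme.Opens} (h : V' ≤ V) (x : R) :
    resR h (rho R V x) = rho R V' x :=
  secAlg_res R ((FEt.puncturedSpec R).ι.image_mono h) x

variable {R}

theorem rho_facts {V : (FEt.puncturedSpec R).toScheme.Opens} {g : R}
    (h : (FEt.puncturedSpec R).ι ''ᵁ V = bOpen R g) :
    IsUnit (rho R V g) ∧ (∀ a, ∃ (r : R) (n : ℕ), a * rho R V g ^ n = rho R V r) ∧
      ∀ r r', rho R V r = rho R V r' → ∃ n : ℕ, g ^ n * r = g ^ n * r' := by
  haveI hloc : IsLocalization.Away g Γ(Spec (CommRingCat.of R), (FEt.puncturedSpec R).ι ''ᵁ V) :=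
    h ▸ secAlg_away R g
  refine ⟨IsLocalization.Away.algebraMap_isUnit (S := Γ(Spec (CommRingCat.of R), (FEt.puncturedSpec R).ι ''ᵁ V)) g,
    fun a => ?_, fun r r' e => ?_⟩
  · obtain ⟨⟨r, ⟨_, n, rfl⟩⟩, e⟩ := IsLocalization.surj (Submonoid.powers g)
      (show Γ(Spec (CommRingCat.of R), (FEt.puncturedSpec R).ι ''ᵁ V) from a)
    simp only [map_pow] at e
    exact ⟨r, n, e⟩
  · obtain ⟨⟨_, n, rfl⟩, e⟩ := (IsLocalization.eq_iff_exists (Submonoid.powers g)
      Γ(Spec (CommRingCat.of R), (FEt.puncturedSpec R).ι ''ᵁ V)).1 e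
    exact ⟨n, e⟩

/-- An element a power-multiple of which is a non zero divisor is one in the sections over a basic open. -/
theorem nzd_of_dvd {V : (FEt.puncturedSpec R).toScheme.Opens} {g : R}
    (h : (FEt.puncturedSpec R).ι ''ᵁ V = bOpen R g) {D r c : R} (hD : IsLeftRegular D) {x u : R}
    (hu : IsUnit (rho R V u)) (e : u * D = c * r) (hx : x = r) :
    IsLeftRegular (rho R V x) := by
  subst hx
  obtain ⟨hg, hsurj, hinj⟩ := rho_facts h
  refine isLeftRegular_of_non_zero_divisor _ fun a ha => ?_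
  obtain ⟨a', n, ea⟩ := hsurj a
  have h0 : rho R V (D * a') = rho R V 0 := by
    refine hu.mul_left_cancel ?_
    rw [map_zero, mul_zero, ← map_mul, ← mul_assoc, e, map_mul, map_mul, ← ea]
    linear_combination (rho R V c * rho R V g ^ n) * ha
  obtain ⟨m, hm⟩ := hinj _ _ h0
  have h1 : g ^ m * a' = 0 := hD (show D * (g ^ m * a') = D * 0 by linear_combination hm)
  have h2 : rho R V g ^ m * rho R V a' = 0 := by rw [← map_pow, ← map_mul, h1, map_zero]
  rw [(hg.pow m).mul_right_eq_zero] at h2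
  rw [h2] at ea
  exact (hg.pow n).mul_left_eq_zero.1 ea

end Sheaf

noncomputable section

/-- An open point `ξ` and a common generator for all compatible families of local generators make the
Picard group of the punctured spectrum trivial. -/
theorem picTrivial_punctured_of_global (R : Type u) [CommRing R] [IsLocalRing R] [IsNoetherianRing R]
    (ξ : PrimeSpectrum R) (hξ : ξ ≠ closedPoint R)
    (hglobal : ∀ (K : Type u) [Fintype K] (f r : K → R), (∀ k, f k ∈ maximalIdeal R) →
      (∀ P : PrimeSpectrum R, P ≠ closedPoint R → ∃ k, f k ∉ P.asIdeal) →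
      (∀ k l, ∃ (M : ℕ) (c : R), (f k * f l) ^ M * r l = c * r k) →
      ∀ k₀, f k₀ ∉ ξ.asIdeal → (∃ m m' : ℕ, f k₀ ^ m * r k₀ = f k₀ ^ m') →
      ∃ χ D : R, IsLeftRegular D ∧ ∀ k,
        (∃ (n : ℕ) (c : R), f k ^ n * r k = c * χ) ∧
        (∃ (n : ℕ) (c : R), f k ^ n * χ = c * r k) ∧
        (∃ (n : ℕ) (c : R), f k ^ n * D = c * r k)) :
    ParaF.PicTrivial (FEt.puncturedSpec R : Scheme.{u}) := by
  classical
  intro L hL
  haveI : NoetherianSpace (Spec (CommRingCat.of R)) := inferInstanceAs (NoetherianSpace (PrimeSpectrum R))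
  haveI : NoetherianSpace (FEt.puncturedSpec R).toScheme := ((FEt.puncturedSpec R).ι.isOpenEmbedding.toIsInducing).noetherianSpace
  let I : Type u := {g : R // bOpen R g ≤ (FEt.puncturedSpec R) ∧ ∃ e : Γ(L, (FEt.puncturedSpec R).ι ⁻¹ᵁ bOpen R g), IsFrame e}
  let W : I → (FEt.puncturedSpec R).toScheme.Opens := fun i => (FEt.puncturedSpec R).ι ⁻¹ᵁ bOpen R i.1
  have himg : ∀ i : I, (FEt.puncturedSpec R).ι ''ᵁ W i = bOpen R i.1 := fun i => by
    show (FEt.puncturedSpec R).ι ''ᵁ (FEt.puncturedSpec R).ι ⁻¹ᵁ (bOpen R i.1) = _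
    rw [Scheme.Hom.image_preimage_eq_opensRange_inf, Scheme.Opens.opensRange_ι]
    exact inf_eq_right.2 i.2.1
  have himg2 : ∀ i j : I, (FEt.puncturedSpec R).ι ''ᵁ (W i ⊓ W j) = bOpen R (i.1 * j.1) := fun i j => by
    show (FEt.puncturedSpec R).ι ''ᵁ (FEt.puncturedSpec R).ι ⁻¹ᵁ (bOpen R i.1 ⊓ bOpen R j.1) = _
    rw [Scheme.Hom.image_preimage_eq_opensRange_inf, Scheme.Opens.opensRange_ι]
    exact (inf_eq_right.2 (inf_le_left.trans i.2.1)).trans (PrimeSpectrum.basicOpen_mul _ _).symm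
  have hcov : ∀ x, ∃ i, x ∈ W i := by
    intro x
    obtain ⟨V, hxV, e, he⟩ := exists_frame hL x
    obtain ⟨_, ⟨_, ⟨f, rfl⟩, rfl⟩, hxf, hfV⟩ := PrimeSpectrum.isBasis_basic_opens.exists_subset_of_mem_open
      (show x.1 ∈ (((FEt.puncturedSpec R).ι ''ᵁ V) : (Spec (CommRingCat.of R)).Opens).1 from ⟨x, hxV, rfl⟩) ((FEt.puncturedSpec R).ι ''ᵁ V).isOpen
    have hle : (FEt.puncturedSpec R).ι ⁻¹ᵁ bOpen R f ≤ V := fun y hy => by
      obtain ⟨z, hz, hzy⟩ := hfV hy
      rwa [Subtype.ext hzy] at hz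
    refine ⟨⟨f, fun y hy => ?_, res L hle e, he.res hle⟩, hxf⟩
    obtain ⟨z, -, rfl⟩ := hfV hy; exact z.2
  obtain ⟨i₀, hi₀⟩ := hcov ⟨ξ, hξ⟩
  have hcU : IsCompact (Set.univ : Set (FEt.puncturedSpec R).toScheme) := NoetherianSpace.isCompact _
  obtain ⟨t, ht⟩ := hcU.elim_finite_subcover (fun i => (W i : Set (FEt.puncturedSpec R).toScheme)) (fun i => (W i).isOpen)
    fun x _ => Set.mem_iUnion.2 (hcov x)
  let K : Type u := ↥(insert i₀ t)
  let f : K → R := fun k => k.1.1
  let k₀ : K := ⟨i₀, Finset.mem_insert_self _ _⟩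
  have hcovK : ∀ x, ∃ k : K, x ∈ W k.1 := fun x => by
    obtain ⟨i, hit, hx⟩ := Set.mem_iUnion₂.1 (ht (Set.mem_univ x))
    exact ⟨⟨i, Finset.mem_insert_of_mem hit⟩, hx⟩
  have hfr : ∀ i : I, ∃ e : Γ(L, W i), IsFrame e := fun i => i.2.2
  choose e he using hfr
  -- a global section
  let F₀ : Γ((FEt.puncturedSpec R).toScheme, (⊤ : (FEt.puncturedSpec R).toScheme.Opens)) := rho R ⊤ i₀.1
  have hbF : (FEt.puncturedSpec R).toScheme.basicOpen F₀ = W i₀ := by
    apply (FEt.puncturedSpec R).ι.image_injective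
    show (FEt.puncturedSpec R).ι ''ᵁ _ = (FEt.puncturedSpec R).ι ''ᵁ _
    rw [himg i₀, Scheme.image_basicOpen, Scheme.Opens.ι_appIso]
    show (Spec (CommRingCat.of R)).basicOpen (((Spec (CommRingCat.of R)).presheaf.map (homOfLE (le_top : (FEt.puncturedSpec R).ι ''ᵁ ⊤ ≤ ⊤)).op)
      ((Scheme.ΓSpecIso (CommRingCat.of R)).inv i₀.1)) = _
    rw [Scheme.basicOpen_res, basicOpen_eq_of_affine', Scheme.Opens.ι_image_top]
    simp only [Iso.inv_hom_id_apply]
    exact inf_eq_right.2 i₀.2.1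
  obtain ⟨N, s, hs⟩ := QCoh.exists_pow_smul_eq_map_of_isQuasiSeparated (ZeroSchX.isQCoh_inv hL) (W := ⊤)
    hcU (fun V V' _ _ _ _ _ _ => NoetherianSpace.isCompact _) F₀ (res L hbF.le (e i₀))
  have ha := fun k : K => (he k.1).exists_coord (le_refl (W k.1)) (res L (le_top : W k.1 ≤ ⊤) s)
  choose a ha using ha
  have ha₀ : a k₀ = rho R (W i₀) (i₀.1 ^ N) := by
    refine (he i₀).coord_unique le_rfl ?_
    have h1 := congrArg (res L (hbF.ge : W i₀ ≤ (FEt.puncturedSpec R).toScheme.basicOpen F₀)) hs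
    change res L hbF.ge (res L ((FEt.puncturedSpec R).toScheme.basicOpen_le F₀) s) =
      res L hbF.ge (resR ((FEt.puncturedSpec R).toScheme.basicOpen_le F₀) F₀ ^ N • res L hbF.le (e i₀)) at h1
    rw [res_smul, res_res, res_res, map_pow, resR_resR, resR_rho, res_self] at h1
    rw [res_self, map_pow]
    have h2 := ha k₀
    rw [res_self] at h2
    exact h2.symm.trans h1
  have hr : ∀ k : K, ∃ (r : R) (n : ℕ), a k * rho R (W k.1) (f k) ^ n = rho R (W k.1) r :=
    fun k => (rho_facts (himg k.1)).2.1 (a k)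
  choose r n hr using hr
  have htr := fun k l : K => (he l.1).exists_coord (inf_le_right : W k.1 ⊓ W l.1 ≤ W l.1) (res L inf_le_left (e k.1))
  choose t htr using htr
  have htran : ∀ k l : K, resR inf_le_right (a l) = resR inf_le_left (a k) * t k l := fun k l => by
    refine (he l.1).coord_unique (inf_le_right : W k.1 ⊓ W l.1 ≤ W l.1) ?_
    have h1 := congrArg (res L (inf_le_left : W k.1 ⊓ W l.1 ≤ W k.1)) (ha k)
    have h2 := congrArg (res L (inf_le_right : W k.1 ⊓ W l.1 ≤ W l.1)) (ha l)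
    simp only [res_smul, res_res] at h1 h2
    rw [mul_smul, ← htr k l, ← h1, ← h2]
  have hcomp : ∀ k l, ∃ (M : ℕ) (c : R), (f k * f l) ^ M * r l = c * r k := by
    intro k l
    obtain ⟨hu, hsurj, hinj⟩ := rho_facts (himg2 k.1 l.1)
    obtain ⟨c, p, hc⟩ := hsurj (t k l)
    have h1 := congrArg (resR (inf_le_left : W k.1 ⊓ W l.1 ≤ W k.1)) (hr k)
    have h2 := congrArg (resR (inf_le_right : W k.1 ⊓ W l.1 ≤ W l.1)) (hr l)
    simp only [map_mul, map_pow, resR_rho] at h1 h2
    obtain ⟨m, hm⟩ := hinj ((f k * f l) ^ p * f k ^ n k * r l) (c * f l ^ n l * r k) (by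
      simp only [map_mul, map_pow] at hc ⊢
      rw [← h1, ← h2, htran k l, ← hc]
      ring)
    exact ⟨m + p + n k, (f k * f l) ^ m * c * f l ^ n l * f l ^ n k, by
      rw [pow_add, pow_add, mul_pow (f k) (f l) (n k)]
      linear_combination f l ^ n k * hm⟩
  have hcovP : ∀ P : PrimeSpectrum R, P ≠ closedPoint R → ∃ k, f k ∉ P.asIdeal := fun P hP => by
    obtain ⟨k, hk⟩ := hcovK ⟨P, hP⟩
    exact ⟨k, hk⟩
  have hfm : ∀ k, f k ∈ maximalIdeal R := fun k => by
    by_contra hk
    exact k.1.2.1 (show closedPoint R ∈ bOpen R (f k) from hk) rfl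
  have hunit : ∃ m m' : ℕ, f k₀ ^ m * r k₀ = f k₀ ^ m' := by
    obtain ⟨m, hm⟩ := (rho_facts (himg i₀)).2.2 (r k₀) (f k₀ ^ (N + n k₀)) (by
      rw [← hr k₀, ha₀, map_pow, map_pow, pow_add])
    exact ⟨m, m + (N + n k₀), hm.trans (pow_add _ _ _).symm⟩
  obtain ⟨χ, D, hD, hχ⟩ := hglobal K f r hfm hcovP hcomp k₀ hi₀ hunit
  have hv : ∀ k : K, ∃ v : Γ((FEt.puncturedSpec R).toScheme, W k.1), IsUnit v ∧ v * rho R (W k.1) χ = a k := by
    intro k
    obtain ⟨⟨p, c, hc⟩, ⟨q, d, hd'⟩, ⟨o, c', hc'⟩⟩ := hχ k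
    obtain ⟨hu, -, -⟩ := rho_facts (himg k.1)
    have hc1 := congrArg (rho R (W k.1)) hc
    have hd1 := congrArg (rho R (W k.1)) hd'
    simp only [map_mul, map_pow, ← hr k] at hc1 hd1
    have hareg : IsLeftRegular (a k) := isLeftRegular_of_non_zero_divisor _ fun z hz =>
      (nzd_of_dvd (himg k.1) hD (x := r k) (u := f k ^ o) (by rw [map_pow]; exact hu.pow o) hc' rfl)
        (show rho R (W k.1) (r k) * z = rho R (W k.1) (r k) * 0 by
          rw [← hr k]; linear_combination rho R (W k.1) (f k) ^ n k * hz)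
    obtain ⟨u, hu'⟩ := hu
    let v : Γ((FEt.puncturedSpec R).toScheme, W k.1) := rho R (W k.1) c * ((u⁻¹ : (Γ((FEt.puncturedSpec R).toScheme, W k.1))ˣ) : Γ((FEt.puncturedSpec R).toScheme, W k.1)) ^ (p + n k)
    let w : Γ((FEt.puncturedSpec R).toScheme, W k.1) := rho R (W k.1) d * rho R (W k.1) (f k) ^ n k *
      ((u⁻¹ : (Γ((FEt.puncturedSpec R).toScheme, W k.1))ˣ) : Γ((FEt.puncturedSpec R).toScheme, W k.1)) ^ q
    have hinv : ∀ i : ℕ, rho R (W k.1) (f k) ^ i *
        ((u⁻¹ : (Γ((FEt.puncturedSpec R).toScheme, W k.1))ˣ) : Γ((FEt.puncturedSpec R).toScheme, W k.1)) ^ i = 1 := fun i => by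
      rw [← mul_pow, ← hu', Units.mul_inv, one_pow]
    have e1 : v * rho R (W k.1) χ = a k := by
      calc v * rho R (W k.1) χ = (rho R (W k.1) c * rho R (W k.1) χ) *
            ((u⁻¹ : (Γ((FEt.puncturedSpec R).toScheme, W k.1))ˣ) : Γ((FEt.puncturedSpec R).toScheme, W k.1)) ^ (p + n k) := by simp only [v]; ring
        _ = a k * (rho R (W k.1) (f k) ^ (p + n k) *
            ((u⁻¹ : (Γ((FEt.puncturedSpec R).toScheme, W k.1))ˣ) : Γ((FEt.puncturedSpec R).toScheme, W k.1)) ^ (p + n k)) := by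
          rw [← hc1, pow_add (rho R (W k.1) (f k))]; ring
        _ = a k := by rw [hinv, mul_one]
    have e2 : w * a k = rho R (W k.1) χ := by
      calc w * a k = (rho R (W k.1) d * (a k * rho R (W k.1) (f k) ^ n k)) *
            ((u⁻¹ : (Γ((FEt.puncturedSpec R).toScheme, W k.1))ˣ) : Γ((FEt.puncturedSpec R).toScheme, W k.1)) ^ q := by simp only [w]; ring
        _ = rho R (W k.1) χ * (rho R (W k.1) (f k) ^ q *
            ((u⁻¹ : (Γ((FEt.puncturedSpec R).toScheme, W k.1))ˣ) : Γ((FEt.puncturedSpec R).toScheme, W k.1)) ^ q) := by rw [← hd1]; ring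
        _ = rho R (W k.1) χ := by rw [hinv, mul_one]
    exact ⟨v, IsUnit.of_mul_eq_one w (hareg (show a k * (v * w) = a k * 1 by
      linear_combination v * e2 + e1)), e1⟩
  choose v hv hvχ using hv
  have hglue : ∀ k l : K, res L inf_le_left (v k • e k.1) =
      res L (inf_le_right : W k.1 ⊓ W l.1 ≤ W l.1) (v l • e l.1) := by
    intro k l
    rw [res_smul, res_smul, htr k l, ← mul_smul]
    congr 1
    obtain ⟨⟨p, c, hc⟩, -, ⟨o, c', hc'⟩⟩ := hχ k
    obtain ⟨hu, -, -⟩ := rho_facts (himg2 k.1 l.1)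
    have hfu : IsUnit (rho R (W k.1 ⊓ W l.1) (f k)) := by
      rw [map_mul] at hu
      exact isUnit_of_mul_isUnit_left hu
    have hreg : IsLeftRegular (rho R (W k.1 ⊓ W l.1) χ) :=
      nzd_of_dvd (himg2 k.1 l.1) hD (r := χ) (c := c' * c) (u := f k ^ (p + o))
        (by rw [map_pow]; exact hfu.pow _)
        (by rw [pow_add]; linear_combination c' * hc + f k ^ p * hc') rfl
    refine hreg ?_
    have h1 := congrArg (resR (inf_le_left : W k.1 ⊓ W l.1 ≤ W k.1)) (hvχ k)
    have h2 := congrArg (resR (inf_le_right : W k.1 ⊓ W l.1 ≤ W l.1)) (hvχ l)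
    rw [map_mul, resR_rho] at h1 h2
    linear_combination t k l * h1 - h2 - htran k l
  obtain ⟨s', hs', -⟩ := existsUnique_glue (M := L) (V := ⊤) (fun k : K => W k.1) (fun _ => le_top)
    (fun p _ => hcovK p) (fun k => v k • e k.1) hglue
  exact InvUfdLib.nonempty_iso_of_frame (InvUfdLib.isFrame_of_cover (fun k : K => W k.1) (fun _ => le_top)
    (fun x _ => hcovK x) s' fun k => hs' k ▸ (he k.1).isUnit_smul (hv k))

end

/-- The punctured spectrum of `A⟦T⟧` has trivial Picard group. -/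
theorem picTrivial_punctured (hd : (2 : ℕ∞) ≤ LocCoh.depth A A) :
    ParaF.PicTrivial (FEt.puncturedSpec (PowerSeries A) : Scheme.{u}) := by
  haveI : (RingHom.ker (PowerSeries.map (residue A))).IsPrime := RingHom.ker_isPrime _
  refine picTrivial_punctured_of_global (PowerSeries A) ⟨RingHom.ker (PowerSeries.map (residue A)), inferInstance⟩
    (fun e => ?_) fun K _ f r hfm hcov hcomp k₀ hk₀ hunit =>
      exists_global hd f r hfm hcov hcomp k₀ (fun h => hk₀ (RingHom.mem_ker.2 h)) hunit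
  have h1 : (PowerSeries.X : PowerSeries A) ∈ maximalIdeal (PowerSeries A) := by
    rw [IsLocalRing.mem_maximalIdeal, mem_nonunits_iff, PowerSeries.isUnit_iff_constantCoeff,
      PowerSeries.constantCoeff_X]
    exact not_isUnit_zero
  rw [← show RingHom.ker (PowerSeries.map (residue A)) = maximalIdeal (PowerSeries A) from
      congrArg PrimeSpectrum.asIdeal e, RingHom.mem_ker, PowerSeries.map_X] at h1
  exact PowerSeries.X_ne_zero h1

/-- The ring `A⟦T⟧` is parafactorial when `A` is complete local of depth at least two. -/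
theorem isParafactorial_powerSeries (hd : (2 : ℕ∞) ≤ LocCoh.depth A A) :
    ParaF.IsParafactorialLocalRing (PowerSeries A) :=
  (ParaFX.isParafactorialLocalRing_iff _).2
    ⟨ParaFX.punctured_bijective _ (two_le_depth_powerSeries hd), picTrivial_punctured hd⟩

end Groth.Agent.RamSam24
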