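import Groth.Agent.RamSam24.Ext
import Groth.Agent.RamSam24.Para
import Groth.Agent.S2865
import Groth.Agent.S2062
import Groth.Agent.ParaFX.Ufd
import Groth.Agent.CILib.Basic
import Groth.Agent.Hensel.DepthFlat
import Groth.Agent.S9280
import Groth.Agent.RegLoc6.Serre
import Groth.Agent.RegUFD.Basic
import Groth.Agent.CohenLib.PowerSeries
import Groth.Agent.AdicLib.Basic

/-!
# Primes of `B⟦T⟧` containing a distinguished polynomial are parafactorial points
-/

set_option autoImplicit false
set_option linter.style.haveILetI false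
universe u

open IsLocalRing Polynomial
open scoped Pointwise

namespace Groth.Agent.RamSam24

/-- A change of coefficients along a flat map is flat. -/
theorem flat_mapRingHom {R S : Type u} [CommRing R] [CommRing S] (f : R →+* S) (hf : f.Flat) :
    (mapRingHom f).Flat := by
  letI := f.toAlgebra
  haveI : Module.Flat R S := hf
  letI : Algebra R[X] S[X] := Polynomial.algebra R S
  haveI : Module.Flat R[X] S[X] := Module.Flat.isBaseChange R R[X] S S[X] Algebra.IsPushout.out
  exact (RingHom.flat_algebraMap_iff (R := R[X]) (S := S[X])).2 inferInstance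

/-- Power series are flat over polynomials. -/
theorem flat_toPS (R : Type u) [CommRing R] [IsNoetherianRing R] : (toPS (A := R)).Flat := by
  haveI : Module.Flat (MvPolynomial Unit R) (MvPowerSeries Unit R) :=
    haveI : Module.Flat (MvPolynomial Unit R)
        (AdicCompletion (MvPolynomial.idealOfVars Unit R) (MvPolynomial Unit R)) :=
      AdicCompletion.flat_of_isNoetherian _
    Module.Flat.of_linearEquiv (MvPowerSeries.toAdicCompletionAlgEquiv Unit R).toLinearEquiv
  let u : MvPolynomial Unit R →+* PowerSeries R := algebraMap (MvPolynomial Unit R) (MvPowerSeries Unit R)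
  have hu : u.Flat := RingHom.flat_algebraMap_iff.2 inferInstance
  let e := (MvPolynomial.pUnitAlgEquiv.{u, 0} R).toRingEquiv
  have key : (toPS (A := R)) = u.comp e.symm.toRingHom := by
    refine Polynomial.ringHom_ext (fun a => ?_) ?_
    · simp [u, e, toPS, MvPowerSeries.algebraMap_apply']
      rfl
    · simp [u, e, toPS, MvPowerSeries.algebraMap_apply']
      rfl
  rw [key]
  exact (RingHom.Flat.of_bijective e.symm.bijective).comp hu

theorem isAdicComplete_powerSeries (R : Type u) [CommRing R] [IsNoetherianRing R] [IsLocalRing R]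
    [IsAdicComplete (maximalIdeal R) R] : IsAdicComplete (maximalIdeal (PowerSeries R)) (PowerSeries R) := by
  let e : MvPowerSeries (Fin 1) R ≃+* PowerSeries R := (MvPowerSeries.renameEquiv R finOneEquiv).toRingEquiv
  haveI := CohenLib.isAdicComplete_mvPowerSeries (Λ := R) (n := 1)
  have h : (maximalIdeal (MvPowerSeries (Fin 1) R)).map e = maximalIdeal (PowerSeries R) := by
    haveI := Ideal.map_isMaximal_of_equiv e (p := maximalIdeal (MvPowerSeries (Fin 1) R))
    exact IsLocalRing.eq_maximalIdeal inferInstance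
  rw [← h, IsAdicComplete.congr_ringEquiv]
  infer_instance

variable {B : Type u} [CommRing B] [IsNoetherianRing B] [IsLocalRing B] [IsAdicComplete (maximalIdeal B) B]

/-- The flat local map out of a localization of power series given by a map on polynomials. -/
theorem exists_localExt {C : Type u} [CommRing C] [IsNoetherianRing C] [IsLocalRing C]
    [IsAdicComplete (maximalIdeal C) C] {D : B[X]} (hD : D.IsDistinguishedAt (maximalIdeal B))
    (Q : Ideal (PowerSeries B)) [Q.IsPrime] (hDQ : (D : PowerSeries B) ∈ Q) (θ : B[X] →+* C) (hθ : θ.Flat)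
    (hP : (maximalIdeal C).comap θ = Q.comap toPS) :
    ∃ ψ : Localization.AtPrime Q →+* C, ψ.Flat ∧ IsLocalHom ψ ∧
      (maximalIdeal (Localization.AtPrime Q)).map ψ = (Q.comap toPS).map θ := by
  have hDC : θ D ∈ maximalIdeal C := hP.ge (show D ∈ Q.comap toPS from hDQ)
  obtain ⟨φ, hφf, hφ⟩ := exists_flat_extension hD θ hθ hDC
  have hdec : ∀ r : PowerSeries B, ∃ (h : B[X]) (c : PowerSeries B), r = (h : PowerSeries B) + c * (D : PowerSeries B) := by
    intro r
    obtain ⟨h, hh⟩ := surjective_mod hD r
    obtain ⟨c, hc⟩ := Ideal.mem_span_singleton'.1 hh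
    exact ⟨h, c, by rw [hc]; ring⟩
  have hmem : ∀ r, r ∈ Q ↔ φ r ∈ maximalIdeal C := by
    intro r
    obtain ⟨h, c, rfl⟩ := hdec r
    rw [Ideal.add_mem_iff_left _ (Q.mul_mem_left c hDQ), map_add, map_mul, hφ, hφ,
      Ideal.add_mem_iff_left _ (Ideal.mul_mem_left _ _ hDC)]
    exact (SetLike.ext_iff.1 hP h).symm
  have hu : ∀ s : Q.primeCompl, IsUnit (φ s) := fun s => by
    by_contra hs
    exact s.2 ((hmem _).2 hs)
  let ψ : Localization.AtPrime Q →+* C := IsLocalization.lift (M := Q.primeCompl) hu
  have hψ : ∀ r, ψ (algebraMap _ _ r) = φ r := IsLocalization.lift_eq hu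
  refine ⟨ψ, ?_, ⟨fun x hx => ?_⟩, ?_⟩
  · letI : Algebra (PowerSeries B) C := φ.toAlgebra
    letI : Algebra (Localization.AtPrime Q) C := ψ.toAlgebra
    haveI : IsScalarTower (PowerSeries B) (Localization.AtPrime Q) C := IsScalarTower.of_algebraMap_eq fun r => (hψ r).symm
    haveI : Module.Flat (PowerSeries B) C := hφf
    show Module.Flat (Localization.AtPrime Q) C
    exact (Module.flat_iff_of_isLocalization (Localization.AtPrime Q) Q.primeCompl C).2 inferInstance
  · obtain ⟨r, s, rfl⟩ := IsLocalization.exists_mk'_eq Q.primeCompl x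
    rw [IsLocalization.lift_mk'] at hx
    refine (IsLocalization.AtPrime.isUnit_mk'_iff (Localization.AtPrime Q) Q r s).2 fun hr => ?_
    exact (IsLocalRing.mem_maximalIdeal _).1 ((hmem r).1 hr) (isUnit_of_mul_isUnit_left hx)
  · rw [← IsLocalization.AtPrime.map_eq_maximalIdeal Q (Localization.AtPrime Q), Ideal.map_map,
      show ψ.comp (algebraMap _ _) = φ from RingHom.ext hψ]
    refine le_antisymm (Ideal.map_le_iff_le_comap.2 fun r hr => ?_) (Ideal.map_le_iff_le_comap.2 fun h hh => ?_)
    · obtain ⟨h, c, rfl⟩ := hdec r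
      rw [Ideal.add_mem_iff_left _ (Q.mul_mem_left c hDQ)] at hr
      rw [Ideal.mem_comap, map_add, map_mul, hφ, hφ]
      exact add_mem (Ideal.mem_map_of_mem θ hr) (Ideal.mul_mem_left _ _ (Ideal.mem_map_of_mem θ hDQ))
    · rw [Ideal.mem_comap, ← hφ]
      exact Ideal.mem_map_of_mem φ hh

/-- Descent of parafactoriality along the extended map. -/
theorem isParafactorial_of_localExt {C : Type u} [CommRing C] [IsNoetherianRing C] [IsLocalRing C]
    [IsAdicComplete (maximalIdeal C) C] {D : B[X]} (hD : D.IsDistinguishedAt (maximalIdeal B))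
    (Q : Ideal (PowerSeries B)) [Q.IsPrime] (hDQ : (D : PowerSeries B) ∈ Q) (θ : B[X] →+* C) (hθ : θ.Flat)
    (hP : (maximalIdeal C).comap θ = Q.comap toPS)
    (hfib : ∀ Pr : Ideal C, Pr.IsPrime → (Q.comap toPS).map θ ≤ Pr → Pr = maximalIdeal C)
    (hC : ringKrullDim (Localization.AtPrime Q) ≤ ringKrullDim C → ParaF.IsParafactorialLocalRing C) :
    ParaF.IsParafactorialLocalRing (Localization.AtPrime Q) := by
  obtain ⟨ψ, hψf, hψl, hψm⟩ := exists_localExt hD Q hDQ θ hθ hP
  haveI : IsNoetherianRing (Localization.AtPrime Q) := IsLocalization.isNoetherianRing Q.primeCompl _ inferInstance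
  letI : Algebra (Localization.AtPrime Q) C := ψ.toAlgebra
  haveI : IsLocalHom (algebraMap (Localization.AtPrime Q) C) := hψl
  haveI : Module.Flat (Localization.AtPrime Q) C := hψf
  have hdim : ringKrullDim (Localization.AtPrime Q) ≤ ringKrullDim C := by
    have : (maximalIdeal C).LiesOver (maximalIdeal (Localization.AtPrime Q)) :=
      ⟨(IsLocalRing.maximalIdeal_comap ψ).symm⟩
    rw [← IsLocalRing.maximalIdeal_height_eq_ringKrullDim, ← IsLocalRing.maximalIdeal_height_eq_ringKrullDim,
      Ideal.height_eq_height_add_of_liesOver_of_hasGoingDown (maximalIdeal (Localization.AtPrime Q)) (maximalIdeal C)]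
    exact WithBot.coe_le_coe.2 le_self_add
  refine S2865.result (Localization.AtPrime Q) C ?_ (hC hdim)
  let K : Ideal C := (maximalIdeal (Localization.AtPrime Q)).map (algebraMap _ C)
  have hKm : K ≤ maximalIdeal C := Ideal.map_le_iff_le_comap.2 (IsLocalRing.maximalIdeal_comap ψ).ge
  haveI : Nontrivial (C ⧸ K) := Ideal.Quotient.nontrivial_iff.mpr
    fun h => (maximalIdeal.isMaximal C).ne_top (top_le_iff.1 (h ▸ hKm))
  haveI : Ring.KrullDimLE 0 (C ⧸ K) := Ring.KrullDimLE.mk₀ fun I hI => by
    have h1 : K ≤ I.comap (Ideal.Quotient.mk K) := fun x hx => by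
      rw [Ideal.mem_comap, Ideal.Quotient.eq_zero_iff_mem.2 hx]; exact zero_mem _
    have h2 : I.comap (Ideal.Quotient.mk K) = maximalIdeal C :=
      hfib _ (Ideal.comap_isPrime _ _) (hψm.symm.trans_le h1)
    haveI : (I.comap (Ideal.Quotient.mk K)).IsMaximal := h2 ▸ maximalIdeal.isMaximal C
    rw [← Ideal.map_comap_of_surjective _ Ideal.Quotient.mk_surjective I]
    exact (Ideal.map_eq_top_or_isMaximal_of_surjective _ Ideal.Quotient.mk_surjective ‹_›).resolve_left fun e =>
      hI.ne_top (by rw [← Ideal.map_comap_of_surjective _ Ideal.Quotient.mk_surjective I, e])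
  exact le_antisymm (Ring.krullDimLE_iff.1 inferInstance) ringKrullDim_nonneg_of_nontrivial

/-- The case of a point mapping to a regular local ring. -/
theorem isParafactorial_of_regularPoint {D : B[X]} (hD : D.IsDistinguishedAt (maximalIdeal B))
    (Q : Ideal (PowerSeries B)) [Q.IsPrime] (hDQ : (D : PowerSeries B) ∈ Q)
    (hdim : (2 : WithBot ℕ∞) ≤ ringKrullDim (Localization.AtPrime Q)) {L : Type u} [CommRing L] [IsRegularLocalRing L]
    (θ₀ : B[X] →+* L) (hθ₀ : θ₀.Flat) (hP : (maximalIdeal L).comap θ₀ = Q.comap toPS)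
    (hmap₀ : (Q.comap toPS).map θ₀ = maximalIdeal L) :
    ParaF.IsParafactorialLocalRing (Localization.AtPrime Q) := by
  let C' := AdicCompletion (maximalIdeal L) L
  haveI : IsNoetherianRing C' := LC.Canon.isNoetherianRing_completion (R := L)
  haveI : IsRegularLocalRing C' := CILib.isRegularLocalRing_adicCompletion L
  haveI : IsAdicComplete (maximalIdeal C') C' := CILib.isAdicComplete_adicCompletion L
  haveI : IsLocalHom (algebraMap L C') := AdicCompletion.algebraMap_isLocalHom_of_fg (IsNoetherian.noetherian _)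
  haveI : Module.Flat L C' := AdicCompletion.flat_of_isNoetherian _
  let θ : B[X] →+* C' := (algebraMap L C').comp θ₀
  have hθ : θ.Flat := hθ₀.comp (RingHom.flat_algebraMap_iff.2 inferInstance)
  have hmap : (Q.comap toPS).map θ = maximalIdeal C' := by
    show (Q.comap toPS).map ((algebraMap L C').comp θ₀) = _
    rw [← Ideal.map_map, hmap₀, AdicCompletion.maximalIdeal_eq_map (R := L)]
  refine isParafactorial_of_localExt hD Q hDQ θ hθ ?_ (fun Pr hPr hle => ?_) fun hle => ?_
  · show (maximalIdeal C').comap ((algebraMap L C').comp θ₀) = _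
    rw [← Ideal.comap_comap, IsLocalRing.maximalIdeal_comap, hP]
  · exact ((maximalIdeal.isMaximal C').eq_of_le hPr.ne_top (hmap.ge.trans hle)).symm
  · obtain ⟨_, _⟩ := RegUFD.ufd C'
    exact ParaFX.isParafactorial_of_ufd C' (hdim.trans hle)

/-- A prime over the closed point of the constants containing a series with non zero residue is maximal. -/
theorem eq_maximalIdeal_of_residue {A : Type u} [CommRing A] [IsLocalRing A] [IsAdicComplete (maximalIdeal A) A]
    (P : Ideal (PowerSeries A)) [P.IsPrime] (hm : ∀ c ∈ maximalIdeal A, PowerSeries.C c ∈ P)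
    {f : PowerSeries A} (hf : f ∈ P) (hne : f.map (residue A) ≠ 0) : P = maximalIdeal (PowerSeries A) := by
  obtain ⟨D', h', hfac⟩ := PowerSeries.exists_isWeierstrassFactorization hne
  have hD' : (D' : PowerSeries A) ∈ P := by
    rw [hfac.eq_mul] at hf
    exact (Ideal.mul_unit_mem_iff_mem _ hfac.isUnit).1 hf
  have hXn : (PowerSeries.X : PowerSeries A) ^ D'.natDegree ∈ P := by
    have hsum := congrArg (fun q : A[X] => (q : PowerSeries A)) hfac.isDistinguishedAt.monic.as_sum
    simp only [Polynomial.coe_add, Polynomial.coe_pow, Polynomial.coe_X] at hsum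
    rw [hsum] at hD'
    refine (add_mem_cancel_right ?_).1 hD'
    rw [← Polynomial.coeToPowerSeries.ringHom_apply, map_sum]
    refine Ideal.sum_mem _ fun i hi => ?_
    rw [map_mul, Polynomial.coeToPowerSeries.ringHom_apply, Polynomial.coe_C]
    exact Ideal.mul_mem_right _ _ (hm _ (hfac.isDistinguishedAt.mem (Finset.mem_range.1 hi)))
  refine le_antisymm (le_maximalIdeal (Ideal.IsPrime.ne_top inferInstance)) fun g hg => ?_
  rw [PowerSeries.eq_X_mul_shift_add_const g]
  refine add_mem (Ideal.mul_mem_right _ _ (Ideal.IsPrime.mem_of_pow_mem inferInstance _ hXn)) (hm _ ?_)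
  exact (IsLocalRing.mem_maximalIdeal _).2 fun hu => (IsLocalRing.mem_maximalIdeal _).1 hg
    (PowerSeries.isUnit_iff_constantCoeff.2 hu)

/-- Depth does not drop along a flat local map. -/
theorem depth_le_of_flat {R S : Type u} [CommRing R] [CommRing S] [IsLocalRing R] [IsLocalRing S]
    [IsNoetherianRing R] [IsNoetherianRing S] (φ : R →+* S) (hφ : φ.Flat) (hl : IsLocalHom φ) :
    LocCoh.depth R R ≤ LocCoh.depth S S := by
  letI := φ.toAlgebra
  haveI : IsLocalHom (algebraMap R S) := hl
  haveI : Module.Flat R S := hφ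
  rw [← Hensel.depth_congr (TensorProduct.AlgebraTensorModule.rid R S S), S2062.result (M := R) (N := S)]
  exact le_self_add

/-- Cutting by the variable lowers the depth by one. -/
theorem two_le_depth_of_three_le_powerSeries {A : Type u} [CommRing A] [IsLocalRing A] [IsNoetherianRing A]
    (h : (3 : ℕ∞) ≤ LocCoh.depth (PowerSeries A) (PowerSeries A)) : (2 : ℕ∞) ≤ LocCoh.depth A A := by
  have hX : (PowerSeries.X : PowerSeries A) ∈ maximalIdeal (PowerSeries A) := by
    rw [IsLocalRing.mem_maximalIdeal, mem_nonunits_iff, PowerSeries.isUnit_iff_constantCoeff,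
      PowerSeries.constantCoeff_X]
    exact not_isUnit_zero
  have hreg : IsSMulRegular (PowerSeries A) (PowerSeries.X : PowerSeries A) := fun x y hxy => by
    ext n
    have := congrArg (PowerSeries.coeff (n + 1)) hxy
    simpa [PowerSeries.coeff_succ_X_mul] using this
  have h2 := (Hensel.succ_le_depth_iff hX hreg 2).1 (by exact_mod_cast h)
  let f : PowerSeries A →+ A := (PowerSeries.constantCoeff (R := A)).toAddMonoidHom
  have hker : ∀ x : PowerSeries A, x ∈ (PowerSeries.X : PowerSeries A) • (⊤ : Submodule (PowerSeries A) (PowerSeries A)) ↔ f x = 0 := by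
    intro x
    rw [Submodule.mem_smul_pointwise_iff_exists]
    constructor
    · rintro ⟨y, -, rfl⟩; simp [f]
    · intro hx
      refine ⟨PowerSeries.mk fun p => PowerSeries.coeff (p + 1) x, trivial, ?_⟩
      conv_rhs => rw [PowerSeries.eq_X_mul_shift_add_const x, show PowerSeries.constantCoeff x = 0 from hx, map_zero, add_zero]
      rfl
  let g : QuotSMulTop (PowerSeries.X : PowerSeries A) (PowerSeries A) →+ A :=
    QuotientAddGroup.lift _ f fun x hx => (hker x).1 hx
  have hg : Function.Bijective g := by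
    refine ⟨(injective_iff_map_eq_zero g).2 fun x hx => ?_, fun a => ⟨Submodule.Quotient.mk (PowerSeries.C a), PowerSeries.constantCoeff_C a⟩⟩
    obtain ⟨x, rfl⟩ := Submodule.Quotient.mk_surjective _ x
    exact (Submodule.Quotient.mk_eq_zero _).2 ((hker x).2 hx)
  rw [Alg6.depth_eq_of_semilinear (PowerSeries.constantCoeff (R := A)) (fun a => ⟨PowerSeries.C a, PowerSeries.constantCoeff_C a⟩)
    (AddEquiv.ofBijective g hg) (fun r x => by
      obtain ⟨x, rfl⟩ := Submodule.Quotient.mk_surjective _ x
      exact map_mul (PowerSeries.constantCoeff (R := A)) r x)] at h2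
  exact_mod_cast h2

/-- A local ring of `B⟦T⟧` at a prime containing a distinguished polynomial is parafactorial when the
localization of `B` below has depth at least two, in particular when it has depth at least three itself. -/
theorem isParafactorial_of_two_le_depth {D : B[X]}
    (hD : D.IsDistinguishedAt (maximalIdeal B)) (Q : Ideal (PowerSeries B)) [Q.IsPrime]
    (hDQ : (D : PowerSeries B) ∈ Q)
    (h23 : (2 : ℕ∞) ≤ LocCoh.depth (Localization.AtPrime ((Q.comap toPS).comap (Polynomial.C : B →+* B[X])))
        (Localization.AtPrime ((Q.comap toPS).comap (Polynomial.C : B →+* B[X]))) ∨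
      (3 : ℕ∞) ≤ LocCoh.depth (Localization.AtPrime Q) (Localization.AtPrime Q)) :
    ParaF.IsParafactorialLocalRing (Localization.AtPrime Q) := by
  classical
  let P : Ideal B[X] := Q.comap toPS
  let p : Ideal B := P.comap C
  let S := Localization.AtPrime p
  haveI : IsNoetherianRing S := IsLocalization.isNoetherianRing p.primeCompl _ inferInstance
  let ι : B[X] →+* S[X] := mapRingHom (algebraMap B S)
  have hι : ι.Flat := flat_mapRingHom _ (RingHom.flat_algebraMap_iff.2 (IsLocalization.flat S p.primeCompl))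
  letI : Algebra B[X] S[X] := ι.toAlgebra
  haveI : IsLocalization (p.primeCompl.map (Polynomial.C : B →+* B[X])) S[X] := by
    convert! Polynomial.isLocalization p.primeCompl S using 1
  have hdisj : Disjoint ((p.primeCompl.map (Polynomial.C : B →+* B[X]) : Submonoid B[X]) : Set B[X]) (P : Set B[X]) := by
    rw [Set.disjoint_left]
    rintro _ ⟨b, hb, rfl⟩ hbP
    exact hb hbP
  let P' : Ideal S[X] := P.map ι
  haveI hP'p : P'.IsPrime :=
    IsLocalization.isPrime_of_isPrime_disjoint (p.primeCompl.map (Polynomial.C : B →+* B[X])) S[X] P inferInstance hdisj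
  have hP' : P'.comap ι = P :=
    IsLocalization.under_map_of_isPrime_disjoint (p.primeCompl.map (Polynomial.C : B →+* B[X])) S[X] inferInstance hdisj
  let k := ResidueField S
  let ρ : S[X] →+* k[X] := mapRingHom (residue S)
  have hρ : Function.Surjective ρ := Polynomial.map_surjective _ residue_surjective
  have hker : RingHom.ker ρ = (maximalIdeal S).map (Polynomial.C : S →+* S[X]) := by
    rw [Polynomial.ker_mapRingHom, IsLocalRing.ker_residue]
  have hkerP : RingHom.ker ρ ≤ P' := by
    rw [hker, ← IsLocalization.AtPrime.map_eq_maximalIdeal p S, Ideal.map_map]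
    refine Ideal.map_le_iff_le_comap.2 fun b hb => ?_
    rw [Ideal.mem_comap, RingHom.comp_apply, ← Polynomial.map_C]
    exact Ideal.mem_map_of_mem ι hb
  let P'' : Ideal k[X] := P'.map ρ
  haveI : P''.IsPrime := Ideal.map_isPrime_of_surjective hρ hkerP
  have hP'' : P''.comap ρ = P' := by
    rw [Ideal.comap_map_of_surjective _ hρ, ← RingHom.ker_eq_comap_bot, sup_eq_left.2 hkerP]
  have hDP'' : ρ (ι D) ∈ P'' := Ideal.mem_map_of_mem _ (Ideal.mem_map_of_mem ι hDQ)
  have hDk : (ρ (ι D)).Monic := (hD.monic.map _).map _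
  haveI hP''max : P''.IsMaximal := Ideal.IsPrime.isMaximal inferInstance fun h0 => hDk.ne_zero (by
    rw [h0] at hDP''; exact hDP'')
  obtain ⟨G, hG⟩ := (IsPrincipalIdealRing.principal P'').principal
  have hG0 : G ≠ 0 := fun h0 => by
    rw [hG, h0] at hDP''
    exact hDk.ne_zero (by simpa using hDP'')
  let gb : k[X] := G * C G.leadingCoeff⁻¹
  have hgbm : gb.Monic := monic_mul_leadingCoeff_inv hG0
  have hgb : P'' = Ideal.span {gb} := by
    rw [hG]
    refine (Ideal.span_singleton_mul_right_unit ?_ G).symm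
    exact Polynomial.isUnit_C.2 (isUnit_iff_ne_zero.2 (inv_ne_zero (leadingCoeff_ne_zero.2 hG0)))
  obtain ⟨g, hgmap, -, hgm⟩ := Polynomial.lifts_and_degree_eq_and_monic
    ((Polynomial.mem_lifts _).2 (hρ gb)) hgbm
  have hgP' : g ∈ P' := by
    rw [← hP'', Ideal.mem_comap, show ρ g = gb from hgmap, hgb]
    exact Ideal.mem_span_singleton_self _
  let A0 := AdjoinRoot g
  haveI : Module.Finite S A0 := hgm.finite_adjoinRoot
  haveI : Module.Free S A0 := hgm.free_adjoinRoot
  haveI : IsNoetherianRing A0 := IsNoetherianRing.of_finite S A0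
  haveI : Algebra.IsIntegral S A0 := Algebra.IsIntegral.of_finite _ _
  let mk0 : S[X] →+* A0 := AdjoinRoot.mk g
  have hmk0 : Function.Surjective mk0 := AdjoinRoot.mk_surjective
  have hkg : RingHom.ker mk0 ≤ P' := fun z hz => by
    obtain ⟨c, rfl⟩ := AdjoinRoot.mk_eq_zero.1 hz
    exact P'.mul_mem_right c hgP'
  haveI hP'max : P'.IsMaximal := hP'' ▸ Ideal.comap_isMaximal_of_surjective _ hρ
  let M0 : Ideal A0 := P'.map mk0
  haveI hM0 : M0.IsMaximal := (Ideal.map_eq_top_or_isMaximal_of_surjective _ hmk0 hP'max).resolve_left fun e =>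
    hP'max.ne_top (by rw [← sup_eq_left.2 hkg, RingHom.ker_eq_comap_bot, ← Ideal.comap_map_of_surjective _ hmk0,
      show P'.map mk0 = ⊤ from e, Ideal.comap_top])
  have hcomM0 : M0.comap mk0 = P' := by
    rw [Ideal.comap_map_of_surjective _ hmk0, ← RingHom.ker_eq_comap_bot, sup_eq_left.2 hkg]
  have hM0le : M0 ≤ (maximalIdeal S).map (algebraMap S A0) := by
    refine Ideal.map_le_iff_le_comap.2 fun z hz => ?_
    rw [Ideal.mem_comap]
    have h1 : ρ z ∈ Ideal.span {gb} := hgb ▸ (Ideal.mem_map_of_mem ρ hz : ρ z ∈ P'')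
    obtain ⟨c, hc⟩ := Ideal.mem_span_singleton'.1 h1
    obtain ⟨c, rfl⟩ := hρ c
    have h2 : z - c * g ∈ (maximalIdeal S).map (Polynomial.C : S →+* S[X]) := by
      rw [← hker, RingHom.mem_ker, map_sub, map_mul, show ρ g = gb from hgmap, hc, sub_self]
    have h3 := Ideal.mem_map_of_mem mk0 h2
    rw [Ideal.map_map, map_sub, map_mul, show mk0 g = 0 from AdjoinRoot.mk_self, mul_zero, sub_zero] at h3
    exact h3
  haveI : IsLocalRing A0 := IsLocalRing.of_unique_max_ideal ⟨M0, hM0, fun M hM => by
    haveI := hM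
    have h2 := IsLocalRing.eq_maximalIdeal (Ideal.isMaximal_comap_of_isIntegral_of_isMaximal (R := S) M)
    exact (hM0.eq_of_le hM.ne_top (hM0le.trans (Ideal.map_le_iff_le_comap.2 h2.ge))).symm⟩
  have hM0e : M0 = maximalIdeal A0 := IsLocalRing.eq_maximalIdeal hM0
  have hA0m : (maximalIdeal S).map (algebraMap S A0) = maximalIdeal A0 := by
    refine le_antisymm (le_maximalIdeal fun e => ?_) (hM0e ▸ hM0le)
    have h2 := IsLocalRing.eq_maximalIdeal (Ideal.isMaximal_comap_of_isIntegral_of_isMaximal (R := S) (maximalIdeal A0))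
    exact (maximalIdeal.isMaximal A0).ne_top (top_le_iff.1 (e ▸ Ideal.map_le_iff_le_comap.2 h2.ge))
  haveI : IsLocalHom (algebraMap S A0) := ((IsLocalRing.local_hom_TFAE (algebraMap S A0)).out 0 2).2 hA0m.le
  let A1 := AdicCompletion (maximalIdeal A0) A0
  haveI : IsNoetherianRing A1 := LC.Canon.isNoetherianRing_completion (R := A0)
  haveI : IsLocalHom (algebraMap A0 A1) := AdicCompletion.algebraMap_isLocalHom_of_fg (IsNoetherian.noetherian _)
  haveI : Module.Flat A0 A1 := AdicCompletion.flat_of_isNoetherian _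
  haveI : IsAdicComplete (maximalIdeal A1) A1 := CILib.isAdicComplete_adicCompletion A0
  have hA1m : (maximalIdeal A0).map (algebraMap A0 A1) = maximalIdeal A1 :=
    (AdicCompletion.maximalIdeal_eq_map (R := A0)).symm
  have hd01 : LocCoh.depth A1 A1 = LocCoh.depth S S := by
    rw [Hensel.depth_eq_of_flat_of_map_maximalIdeal_eq A1 hA1m, Hensel.depth_eq_of_flat_of_map_maximalIdeal_eq A0 hA0m]
  haveI : IsAdicComplete (maximalIdeal (PowerSeries A1)) (PowerSeries A1) := isAdicComplete_powerSeries A1
  let η : B →+* A1 := (algebraMap A0 A1).comp ((algebraMap S A0).comp (algebraMap B S))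
  have hη : η.Flat := ((RingHom.flat_algebraMap_iff.2 (IsLocalization.flat S p.primeCompl)).comp
    (RingHom.flat_algebraMap_iff.2 inferInstance)).comp (RingHom.flat_algebraMap_iff.2 inferInstance)
  let x1 : A1 := algebraMap A0 A1 (AdjoinRoot.root g)
  let σ := (Polynomial.algEquivAevalXAddC x1).toRingEquiv
  let θ : B[X] →+* PowerSeries A1 := (toPS.comp σ.toRingHom).comp (mapRingHom η)
  have hθ : θ.Flat := (flat_mapRingHom η hη).comp ((RingHom.Flat.of_bijective σ.bijective).comp (flat_toPS A1))
  have hθC : ∀ b, θ (C b) = PowerSeries.C (η b) := fun b => by simp [θ, σ, toPS]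
  have hconst : (PowerSeries.constantCoeff).comp θ = (algebraMap A0 A1).comp (mk0.comp ι) := by
    refine Polynomial.ringHom_ext (fun b => ?_) ?_
    · rw [RingHom.comp_apply, hθC, PowerSeries.constantCoeff_C]
      simp [η, mk0, ι, A0, AdjoinRoot.algebraMap_eq]
    · simp [θ, σ, toPS, mk0, ι, x1, A0]
  have hPθ : (maximalIdeal (PowerSeries A1)).comap θ = P := by
    ext h
    rw [Ideal.mem_comap, IsLocalRing.mem_maximalIdeal, mem_nonunits_iff, PowerSeries.isUnit_iff_constantCoeff]
    show ¬ IsUnit (((PowerSeries.constantCoeff).comp θ) h) ↔ h ∈ P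
    rw [hconst, RingHom.comp_apply, isUnit_map_iff, ← mem_nonunits_iff, ← IsLocalRing.mem_maximalIdeal,
      ← hM0e, RingHom.comp_apply, ← Ideal.mem_comap, hcomM0, ← Ideal.mem_comap, hP']
  have hdepth : (2 : ℕ∞) ≤ LocCoh.depth A1 A1 := by
    rcases h23 with h2 | h3
    · exact hd01 ▸ h2
    · obtain ⟨ψ, hψf, hψl, -⟩ := exists_localExt hD Q hDQ θ hθ hPθ
      exact two_le_depth_of_three_le_powerSeries (h3.trans (depth_le_of_flat ψ hψf hψl))
  refine isParafactorial_of_localExt hD Q hDQ θ hθ hPθ (fun Pr hPr hle => ?_) fun _ =>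
    isParafactorial_powerSeries hdepth
  · haveI := hPr
    have hm : ∀ c ∈ maximalIdeal A1, PowerSeries.C c ∈ Pr := by
      have h1 : p.map η = maximalIdeal A1 := by
        show p.map ((algebraMap A0 A1).comp ((algebraMap S A0).comp (algebraMap B S))) = _
        rw [← Ideal.map_map, ← Ideal.map_map, IsLocalization.AtPrime.map_eq_maximalIdeal p S, hA0m, hA1m]
      intro c hc
      rw [← h1] at hc
      have h2 : p.map η ≤ Pr.comap (PowerSeries.C : A1 →+* PowerSeries A1) := Ideal.map_le_iff_le_comap.2 fun b hb => by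
        rw [Ideal.mem_comap, Ideal.mem_comap, ← hθC]
        exact hle (Ideal.mem_map_of_mem θ hb)
      exact h2 hc
    refine eq_maximalIdeal_of_residue Pr hm (hle (Ideal.mem_map_of_mem θ (show D ∈ P from hDQ))) ?_
    show PowerSeries.map (residue A1) (toPS (σ ((mapRingHom η) D))) ≠ 0
    intro h0
    have h1 : ((σ ((mapRingHom η) D)).map (residue A1) : PowerSeries (ResidueField A1)) = 0 := by
      rw [Polynomial.polynomial_map_coe]; exact h0
    rw [Polynomial.coe_eq_zero_iff] at h1
    refine (Polynomial.Monic.map (residue A1) ?_).ne_zero h1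
    show (aeval (X + C x1) (D.map η)).Monic
    rw [← Polynomial.comp_eq_aeval]
    exact (hD.monic.map η).comp_X_add_C x1

/-- A local ring of `B⟦T⟧` of dimension at least two at a prime containing a distinguished polynomial is
parafactorial, for a complete normal `B`. -/
theorem isParafactorial_localization_of_distinguished [IsDomain B] [IsIntegrallyClosed B] {D : B[X]}
    (hD : D.IsDistinguishedAt (maximalIdeal B)) (Q : Ideal (PowerSeries B)) [Q.IsPrime]
    (hDQ : (D : PowerSeries B) ∈ Q) (hdim : (2 : WithBot ℕ∞) ≤ ringKrullDim (Localization.AtPrime Q)) :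
    ParaF.IsParafactorialLocalRing (Localization.AtPrime Q) := by
  classical
  let P : Ideal B[X] := Q.comap toPS
  let p : Ideal B := P.comap C
  let S := Localization.AtPrime p
  haveI : IsNoetherianRing S := IsLocalization.isNoetherianRing p.primeCompl _ inferInstance
  haveI : IsDomain S := IsLocalization.isDomain_localization p.primeCompl_le_nonZeroDivisors
  haveI : IsIntegrallyClosed S := isIntegrallyClosed_of_isLocalization _ _ p.primeCompl_le_nonZeroDivisors
  let ι : B[X] →+* S[X] := mapRingHom (algebraMap B S)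
  have hι : ι.Flat := flat_mapRingHom _ (RingHom.flat_algebraMap_iff.2 (IsLocalization.flat S p.primeCompl))
  letI : Algebra B[X] S[X] := ι.toAlgebra
  haveI : IsLocalization (p.primeCompl.map (Polynomial.C : B →+* B[X])) S[X] := by
    convert! Polynomial.isLocalization p.primeCompl S using 1
  have hdisj : Disjoint ((p.primeCompl.map (Polynomial.C : B →+* B[X]) : Submonoid B[X]) : Set B[X]) (P : Set B[X]) := by
    rw [Set.disjoint_left]
    rintro _ ⟨b, hb, rfl⟩ hbP
    exact hb hbP
  let P' : Ideal S[X] := P.map ι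
  haveI hP'p : P'.IsPrime :=
    IsLocalization.isPrime_of_isPrime_disjoint (p.primeCompl.map (Polynomial.C : B →+* B[X])) S[X] P inferInstance hdisj
  have hP' : P'.comap ι = P :=
    IsLocalization.under_map_of_isPrime_disjoint (p.primeCompl.map (Polynomial.C : B →+* B[X])) S[X] inferInstance hdisj
  by_cases hS : ringKrullDim S ≤ 1
  · -- a regular point
    haveI : Ring.DimensionLEOne S := ⟨fun {I} hI hIp => by
      by_contra hImax
      have h1 : I < maximalIdeal S := lt_of_le_of_ne (le_maximalIdeal hIp.ne_top) fun e =>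
        hImax (e ▸ maximalIdeal.isMaximal S)
      haveI := hIp
      have h2 := Ideal.height_strict_mono_of_isPrime_of_isPrime h1
      have h3 := Ideal.height_strict_mono_of_isPrime_of_isPrime (bot_lt_iff_ne_bot.2 hI)
      rw [Ideal.height_bot] at h3
      have h4 : ((maximalIdeal S).height : WithBot ℕ∞) ≤ ((1 : ℕ∞) : WithBot ℕ∞) := by
        rw [IsLocalRing.maximalIdeal_height_eq_ringKrullDim]; exact hS
      exact absurd (h2.trans_le (WithBot.coe_le_coe.1 h4)) (not_lt.2 (Order.one_le_iff_pos.2 h3))⟩
    haveI : IsRegularLocalRing S := S9280.isRegularLocalRing_of_dimensionLEOne S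
    haveI : IsRegularRing S := RegLoc6.isRegularRing_of_isRegularLocalRing S
    let L := Localization.AtPrime P'
    haveI : IsRegularLocalRing L := IsRegularRing.isRegularLocalRing_localization _
    refine isParafactorial_of_regularPoint hD Q hDQ hdim (L := L) ((algebraMap S[X] L).comp ι)
      (hι.comp (RingHom.flat_algebraMap_iff.2 (IsLocalization.flat L P'.primeCompl))) ?_ ?_
    · show (maximalIdeal L).comap ((algebraMap S[X] L).comp ι) = P
      rw [← Ideal.comap_comap, show (maximalIdeal L).comap (algebraMap S[X] L) = P' from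
        IsLocalization.AtPrime.under_maximalIdeal L P', hP']
    · show P.map ((algebraMap S[X] L).comp ι) = maximalIdeal L
      rw [← Ideal.map_map, IsLocalization.AtPrime.map_eq_maximalIdeal P' L]
  · -- depth at least two on the base
    have hS2 : (2 : WithBot ℕ∞) ≤ ringKrullDim S := by
      rw [← IsLocalRing.maximalIdeal_height_eq_ringKrullDim] at hS ⊢
      have : (1 : ℕ∞) < (maximalIdeal S).height := not_le.1 fun h => hS (WithBot.coe_le_coe.2 h)
      exact WithBot.coe_le_coe.2 (Order.add_one_le_of_lt this)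
    exact isParafactorial_of_two_le_depth hD Q hDQ (Or.inl (ParaFX.two_le_depth_of_normal S hS2))

end Groth.Agent.RamSam24
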