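import Groth.Agent.RamSam24.Core
import Groth.Agent.NFlat6.Hironaka
import Mathlib

/-!
# Extending a flat map from `B[T]` to `B⟦T⟧`
-/

set_option autoImplicit false
set_option linter.style.haveILetI false
universe u

open IsLocalRing Polynomial

namespace Groth.Agent.RamSam24

/-- Flatness of the map of quotients, as a module condition. -/
theorem flat_quot_iff_quotientMap {R C : Type u} [CommRing R] [CommRing C] [Algebra R C] (I : Ideal R) :
    Module.Flat (R ⧸ I) (C ⧸ (I • ⊤ : Submodule R C)) ↔
      (Ideal.quotientMap (I.map (algebraMap R C)) (algebraMap R C) Ideal.le_comap_map).Flat := by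
  letI : Algebra (R ⧸ I) (C ⧸ I.map (algebraMap R C)) :=
    (Ideal.quotientMap (I.map (algebraMap R C)) (algebraMap R C) Ideal.le_comap_map).toAlgebra
  let e : (C ⧸ (I • ⊤ : Submodule R C)) ≃ₗ[R] C ⧸ I.map (algebraMap R C) :=
    (Submodule.quotEquivOfEq _ _ (Ideal.smul_top_eq_map I)).trans
      (Submodule.Quotient.restrictScalarsEquiv R (I.map (algebraMap R C)))
  let e' : (C ⧸ (I • ⊤ : Submodule R C)) ≃ₗ[R ⧸ I] C ⧸ I.map (algebraMap R C) :=
    { e with
      map_smul' := fun a x => by
        obtain ⟨a, rfl⟩ := Ideal.Quotient.mk_surjective a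
        obtain ⟨x, rfl⟩ := Submodule.Quotient.mk_surjective _ x
        simp only [RingHom.id_apply]
        show e (a • Submodule.Quotient.mk x) = _
        refine (map_smul e a _).trans ((Algebra.smul_def a _).trans ?_)
        exact (Algebra.smul_def (A := C ⧸ I.map (algebraMap R C)) (Ideal.Quotient.mk I a) _).symm }
  exact (Module.Flat.equiv_iff e').trans Iff.rfl

theorem isDistinguishedAt_pow {B : Type u} [CommRing B] [IsLocalRing B] {D : B[X]}
    (hD : D.IsDistinguishedAt (maximalIdeal B)) : ∀ n, (D ^ n).IsDistinguishedAt (maximalIdeal B)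
  | 0 => by
    rw [pow_zero]
    exact { monic := monic_one, mem := fun {i} hi => by simp at hi }
  | n + 1 => by rw [pow_succ]; exact (isDistinguishedAt_pow hD n).mul hD

theorem regular_distinguished {B : Type u} [CommRing B] [IsNoetherianRing B] [IsLocalRing B] [IsAdicComplete (maximalIdeal B) B]
    {D : B[X]} (hD : D.IsDistinguishedAt (maximalIdeal B)) : IsSMulRegular (PowerSeries B) (D : PowerSeries B) := by
  refine isSMulRegular_iff_right_eq_zero_of_smul.2 fun g hg => ?_
  exact (PowerSeries.IsWeierstrassDivisorAt.eq_zero_of_mul_eq (q := g) (r := (0 : B[X]))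
    (hD.isWeierstrassDivisorAt (maximalIdeal.isMaximal B).ne_top)
    (by rw [Polynomial.degree_zero]; exact WithBot.bot_lt_coe _) (by rw [← smul_eq_mul, hg, Polynomial.coe_zero])).1

variable {B : Type u} [CommRing B] [IsNoetherianRing B] [IsLocalRing B] [IsAdicComplete (maximalIdeal B) B]
  {C : Type u} [CommRing C] [IsNoetherianRing C] [IsLocalRing C] [IsAdicComplete (maximalIdeal C) C]

/-- A flat map from polynomials to a complete local ring, sending a distinguished polynomial into the
maximal ideal, extends to a flat map on power series. -/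
theorem exists_flat_extension {D : B[X]} (hD : D.IsDistinguishedAt (maximalIdeal B)) (θ : B[X] →+* C)
    (hθ : θ.Flat) (hDC : θ D ∈ maximalIdeal C) :
    ∃ φ : PowerSeries B →+* C, φ.Flat ∧ ∀ h : B[X], φ (h : PowerSeries B) = θ h := by
  classical
  have hn := fun n => isDistinguishedAt_pow hD n
  have hker : ∀ n (a : B[X]), a ∈ Ideal.span {D ^ n} → Ideal.Quotient.mk (maximalIdeal C ^ n) (θ a) = 0 := by
    intro n a ha
    obtain ⟨c, rfl⟩ := Ideal.mem_span_singleton'.1 ha
    rw [Ideal.Quotient.eq_zero_iff_mem, map_mul, map_pow]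
    exact Ideal.mul_mem_left _ _ (Ideal.pow_mem_pow hDC n)
  let f : ∀ n : ℕ, PowerSeries B →+* C ⧸ maximalIdeal C ^ n := fun n =>
    ((Ideal.Quotient.lift (Ideal.span {D ^ n}) ((Ideal.Quotient.mk (maximalIdeal C ^ n)).comp θ) (fun a ha => hker n a ha)).comp
      (hn n).algEquivQuotient.symm.toRingEquiv.toRingHom).comp (Ideal.Quotient.mk _)
  have hf : ∀ n (r : PowerSeries B) (h : B[X]), r - (h : PowerSeries B) ∈ Ideal.span {((D ^ n : B[X]) : PowerSeries B)} →
      f n r = Ideal.Quotient.mk _ (θ h) := by
    intro n r h hr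
    have e : (hn n).algEquivQuotient.symm (Ideal.Quotient.mk _ r) = Ideal.Quotient.mk _ h := by
      rw [AlgEquiv.symm_apply_eq, Ideal.Quotient.eq.2 hr]; rfl
    show Ideal.Quotient.lift (Ideal.span {D ^ n}) ((Ideal.Quotient.mk (maximalIdeal C ^ n)).comp θ) (fun a ha => hker n a ha) ((hn n).algEquivQuotient.symm (Ideal.Quotient.mk _ r)) = _
    rw [e]; rfl
  have hcompat : ∀ {m n : ℕ} (hle : m ≤ n), (Ideal.Quotient.factorPow (maximalIdeal C) hle).comp (f n) = f m := by
    intro m n hle
    ext r
    obtain ⟨h, hh⟩ := surjective_mod (hn n) r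
    rw [RingHom.comp_apply, hf n r h hh, hf m r h]
    · rfl
    · refine Ideal.span_singleton_le_span_singleton.2 ?_ hh
      rw [Polynomial.coe_pow, Polynomial.coe_pow]
      exact pow_dvd_pow _ hle
  let φ : PowerSeries B →+* C := IsAdicComplete.liftRingHom (maximalIdeal C) f hcompat
  have hφ : ∀ h : B[X], φ (h : PowerSeries B) = θ h := by
    intro h
    rw [← sub_eq_zero]
    refine IsHausdorff.haus (inferInstance : IsHausdorff (maximalIdeal C) C) _ fun n => ?_
    rw [SModEq.sub_mem, sub_zero, smul_eq_mul, Ideal.mul_top, ← Ideal.Quotient.eq,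
      IsAdicComplete.mk_liftRingHom, hf n _ h (by rw [sub_self]; exact zero_mem _)]
  refine ⟨φ, ?_, hφ⟩
  letI : Algebra (PowerSeries B) C := φ.toAlgebra
  show Module.Flat (PowerSeries B) C
  let I : Ideal (PowerSeries B) := Ideal.span {(D : PowerSeries B)}
  have hImap : I.map (algebraMap (PowerSeries B) C) = Ideal.span {θ D} := by
    show (Ideal.span {(D : PowerSeries B)}).map φ = _
    rw [Ideal.map_span, Set.image_singleton, hφ]
  have hregC : IsSMulRegular C (D : PowerSeries B) := by
    letI : Algebra B[X] C := θ.toAlgebra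
    haveI : Module.Flat B[X] C := hθ
    have h1 : IsSMulRegular B[X] D := hD.monic.isRegular.left
    have h2 : IsSMulRegular C D := ((TensorProduct.rid B[X] C).isSMulRegular_congr D).mp (h1.lTensor C)
    intro x y hxy
    refine h2 ?_
    show θ D * x = θ D * y
    rw [← hφ D]
    exact hxy
  haveI : Module.Flat (PowerSeries B ⧸ I) (C ⧸ (I • ⊤ : Submodule (PowerSeries B) C)) := by
    rw [flat_quot_iff_quotientMap]
    have hα : (Ideal.quotientMap ((Ideal.span {D}).map θ) θ Ideal.le_comap_map).Flat := by
      letI : Algebra B[X] C := θ.toAlgebra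
      haveI : Module.Flat B[X] C := hθ
      exact (flat_quot_iff_quotientMap (C := C) (Ideal.span {D})).1 ((NFlat6.flat_quot_iff _ C).mpr inferInstance)
    have hK : (Ideal.span {D}).map θ = Ideal.span {θ D} := by rw [Ideal.map_span, Set.image_singleton]
    let e := hD.algEquivQuotient.toRingEquiv
    have key : Ideal.quotientMap (I.map (algebraMap (PowerSeries B) C)) (algebraMap (PowerSeries B) C) Ideal.le_comap_map =
        ((Ideal.Quotient.factor (hK.trans hImap.symm).le).comp
          (Ideal.quotientMap ((Ideal.span {D}).map θ) θ Ideal.le_comap_map)).comp e.symm.toRingHom := by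
      refine Ideal.Quotient.ringHom_ext (RingHom.ext fun r => ?_)
      obtain ⟨h, hh⟩ := surjective_mod hD r
      have e1 : e.symm (Ideal.Quotient.mk _ r) = Ideal.Quotient.mk _ h := by
        rw [RingEquiv.symm_apply_eq, Ideal.Quotient.eq.2 hh]; rfl
      simp only [RingHom.comp_apply, RingEquiv.toRingHom_eq_coe, RingEquiv.coe_toRingHom]
      rw [e1, Ideal.quotientMap_mk, Ideal.quotientMap_mk, Ideal.Quotient.factor_mk, Ideal.Quotient.eq]
      show φ r - θ h ∈ I.map φ
      rw [← hφ, ← map_sub]
      exact Ideal.mem_map_of_mem φ hh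
    rw [key]
    refine (RingHom.Flat.of_bijective e.symm.bijective).comp (hα.comp (RingHom.Flat.of_bijective
      ⟨fun x y hxy => ?_, Ideal.Quotient.factor_surjective _⟩))
    obtain ⟨x, rfl⟩ := Ideal.Quotient.mk_surjective x
    obtain ⟨y, rfl⟩ := Ideal.Quotient.mk_surjective y
    rw [Ideal.Quotient.factor_mk, Ideal.Quotient.factor_mk, Ideal.Quotient.eq] at hxy
    rw [Ideal.Quotient.eq]
    exact (hK.trans hImap.symm).ge hxy
  haveI : Module.Flat (PowerSeries B ⧸ I) (TensorProduct (PowerSeries B) (PowerSeries B ⧸ I) C) :=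
    (NFlat6.flat_quot_iff I C).mp inferInstance
  refine LocalCrit.flat_of_le_jacobson (B := C) I ?_ (NFlat6.rTensor_span_singleton_injective
    (regular_distinguished hD) C hregC) (LocalCrit.keepsInjective_of_flat I C)
  rw [hImap, IsLocalRing.jacobson_eq_maximalIdeal ⊥ bot_ne_top, Ideal.span_singleton_le_iff_mem]
  exact hDC

end Groth.Agent.RamSam24
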