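import Groth.Agent.PSLib.Regular
import Groth.Agent.CohenLib.PowerSeries
import Groth.Agent.NodeLib.Completion
import Groth.Agent.RegFS6.FlatConv
import Groth.Agent.RegFS6.Fibre
import Groth.Agent.EGA41Lib.IntDim
import Groth.Agent.S2038
import Groth.Agent.S2455
import Groth.Agent.S2454
import Groth.Agent.S2462
import Groth.Agent.CplFib6.PS
import Groth.Prelude.Def_EGA41

/-!
# Formally smooth complete local algebras with separable residue extension are power series rings
-/

set_option autoImplicit false
set_option linter.style.haveILetI false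
universe u

open IsLocalRing

namespace Groth.Agent.RamSam24

/-- Formal smoothness for the adic topologies of a local homomorphism gives formal smoothness for the
discrete topology on the base. -/
theorem isAdicFormallySmooth_of_formallySmoothAdic {A B : Type u} [CommRing A] [CommRing B] [IsLocalRing A]
    [IsLocalRing B] [Algebra A B] [IsLocalHom (algebraMap A B)]
    (h : EGA41.IsFormallySmoothAdic A (maximalIdeal A) B (maximalIdeal B)) :
    CAlgX.IsAdicFormallySmooth A B (maximalIdeal B) := by
  intro C _ _ J hJ ψ hψ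
  obtain ⟨k, hk⟩ := hψ
  refine h C J ⟨2, by rw [hJ, Ideal.zero_eq_bot]⟩ ⟨k * 2, ?_⟩ ψ ⟨k, hk⟩
  rw [eq_bot_iff, pow_mul, Ideal.map_pow, ← hJ]
  refine Ideal.pow_right_mono (Ideal.map_le_iff_le_comap.2 fun a ha => ?_) 2
  rw [Ideal.mem_comap, ← Ideal.Quotient.eq_zero_iff_mem]
  refine (ψ.commutes a).symm.trans (hk _ ?_)
  have h1 := Ideal.mem_map_of_mem (algebraMap A B) ha
  rw [Ideal.map_pow] at h1
  exact Ideal.pow_right_mono (((local_hom_TFAE (algebraMap A B)).out 0 2).mp (inferInstance : IsLocalHom (algebraMap A B))) k h1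

/-- A formally smooth complete local algebra with separable residue extension is a power series ring over
a complete flat algebra with the same residue field. -/
theorem exists_powerSeries_iso {A B : Type u} [CommRing A] [CommRing B] [IsLocalRing A] [IsLocalRing B]
    [IsNoetherianRing A] [IsNoetherianRing B] [IsAdicComplete (maximalIdeal B) B] [Algebra A B]
    [IsLocalHom (algebraMap A B)] (hfs : CAlgX.IsAdicFormallySmooth A B (maximalIdeal B))
    [Algebra.IsGeometricallyReduced (ResidueField A) (ResidueField B)] :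
    ∃ (n : ℕ) (A' : Type u) (_ : CommRing A') (_ : IsLocalRing A') (_ : IsNoetherianRing A')
      (_ : IsAdicComplete (maximalIdeal A') A') (_ : Algebra A A') (_ : Module.Flat A A')
      (e : MvPowerSeries (Fin n) A' ≃+* B),
      (maximalIdeal A).map (algebraMap A A') = maximalIdeal A' ∧
      ∀ a : A, e (MvPowerSeries.C (algebraMap A A' a)) = algebraMap A B a := by
  classical
  obtain ⟨A', _, _, _, _, hC, ⟨ε⟩⟩ := (S2455.result (A := A) (ResidueField B)).1
  obtain ⟨-, hN, hcomp, hflat, hm, hgr⟩ := id hC
  haveI := hN; haveI := hcomp; haveI := hflat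
  have hv0 := S2462.result (maximalIdeal A) (maximalIdeal A') (S2454.result hC) (C := B)
    (((local_hom_TFAE (algebraMap A B)).out 0 2).mp (inferInstance : IsLocalHom (algebraMap A B))) (maximalIdeal B)
    (maximalIdeal.isMaximal B).ne_top
    { (ε.toRingEquiv.toRingHom.comp (residue A')) with
      commutes' := fun a => by
        show ε (residue A' (algebraMap A A' a)) = residue B (algebraMap A B a)
        exact ε.commutes (residue A a) }
    (Ideal.map_le_iff_le_comap.2 fun x hx => by
      rw [Ideal.mem_comap, Ideal.map_quotient_self, Ideal.mem_bot]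
      show ε (residue A' x) = 0
      rw [(residue_eq_zero_iff x).2 hx, map_zero])
  obtain ⟨v, hvm, hv⟩ := hv0
  letI : Algebra A' B := v.toRingHom.toAlgebra
  haveI : IsScalarTower A A' B := IsScalarTower.of_algebraMap_eq fun a => (v.commutes a).symm
  have hres : ∀ b : B, ∃ c : A', b - v c ∈ maximalIdeal B := fun b => by
    obtain ⟨c, hc⟩ := (ε.surjective.comp (residue_surjective (R := A'))) (residue B b)
    refine ⟨c, ?_⟩
    rw [← residue_eq_zero_iff, map_sub, sub_eq_zero, ← hc]
    exact (AlgHom.congr_fun hv c).symm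
  -- the closed fibre
  let mB : Ideal B := (maximalIdeal A).map (algebraMap A B)
  have hmB : mB ≤ maximalIdeal B := ((local_hom_TFAE (algebraMap A B)).out 0 2).mp (inferInstance : IsLocalHom (algebraMap A B))
  let B₀ := B ⧸ mB
  haveI : Nontrivial B₀ := Ideal.Quotient.nontrivial_iff.mpr (ne_top_of_le_ne_top (maximalIdeal.isMaximal B).ne_top hmB)
  haveI : IsLocalRing B₀ := IsLocalRing.of_surjective' (Ideal.Quotient.mk mB) Ideal.Quotient.mk_surjective
  haveI hreg₀ : IsRegularLocalRing B₀ := by
    obtain ⟨e⟩ := RegFS6.closedFibre_equiv_quot A B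
    haveI := FlatLoc6.isRegularRing_of_geometricallyRegular (RegFS6.geometricallyRegular_fibre_of_fs hfs)
    haveI : IsLocalRing ((maximalIdeal A).Fiber B) := e.symm.isLocalRing
    haveI : IsRegularLocalRing ((maximalIdeal A).Fiber B) := IsRegularLocalRing.of_isRegularRing_of_isLocalRing _
    exact IsRegularLocalRing.of_ringEquiv e
  haveI : Module.Flat A B := (S2038.result.2 hfs).1
  let n := (maximalIdeal B₀).spanFinrank
  have hdim₀ : ringKrullDim B₀ = n := ((isRegularLocalRing_iff B₀).1 hreg₀).symm
  obtain ⟨s, hscard, hs⟩ := Submodule.FG.exists_span_finset_card_eq_spanFinrank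
    (IsNoetherian.noetherian (maximalIdeal B₀))
  let eq : Fin n ≃ s := (s.equivFinOfCardEq hscard).symm
  choose t ht using fun i : Fin n => Ideal.Quotient.mk_surjective ((eq i : B₀))
  have hmap₀ : (maximalIdeal B).map (Ideal.Quotient.mk mB) = maximalIdeal B₀ :=
    IsLocalRing.eq_maximalIdeal ((Ideal.map_eq_top_or_isMaximal_of_surjective _ Ideal.Quotient.mk_surjective
      (maximalIdeal.isMaximal B)).resolve_left fun h => by
        have h2 := congrArg (Ideal.comap (Ideal.Quotient.mk mB)) h
        rw [Ideal.comap_map_of_surjective _ Ideal.Quotient.mk_surjective, ← RingHom.ker_eq_comap_bot, Ideal.mk_ker,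
          sup_eq_left.2 hmB, Ideal.comap_top] at h2
        exact (maximalIdeal.isMaximal B).ne_top h2)
  have hcom₀ : (maximalIdeal B₀).comap (Ideal.Quotient.mk mB) = maximalIdeal B := by
    rw [← hmap₀, Ideal.comap_map_of_surjective _ Ideal.Quotient.mk_surjective, ← RingHom.ker_eq_comap_bot,
      Ideal.mk_ker, sup_eq_left.2 hmB]
  have htm : ∀ i, t i ∈ maximalIdeal B := fun i => by
    rw [← hcom₀, Ideal.mem_comap, ht]
    exact hs.le (Submodule.subset_span (eq i).2)
  obtain ⟨φ, hφX⟩ := PSLib.exists_algHom (R := A') (maximalIdeal B) t htm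
  let T := MvPowerSeries (Fin n) A'
  haveI : IsAdicComplete (maximalIdeal T) T := CohenLib.isAdicComplete_mvPowerSeries
  have hTC : ∀ c : A', algebraMap A' T c = MvPowerSeries.C c := fun c => rfl
  have hφC : ∀ c : A', φ (MvPowerSeries.C c) = v c := fun c => by
    rw [← hTC, φ.commutes]; rfl
  have hφm : (maximalIdeal T).map φ.toRingHom ≤ maximalIdeal B := Ideal.map_le_iff_le_comap.2 fun f hf => by
    have h1 : f - MvPowerSeries.C (MvPowerSeries.constantCoeff f) ∈ PSLib.vars n A' := PSLib.mem_vars_iff.2 (by simp)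
    have h2 : (PSLib.vars n A').map φ.toRingHom ≤ maximalIdeal B := by
      rw [PSLib.vars, Ideal.map_span, Ideal.span_le]
      rintro _ ⟨_, ⟨i, rfl⟩, rfl⟩
      exact (hφX i).symm ▸ htm i
    rw [Ideal.mem_comap, show f = (f - MvPowerSeries.C (MvPowerSeries.constantCoeff f)) +
      MvPowerSeries.C (MvPowerSeries.constantCoeff f) by ring, map_add]
    refine add_mem (h2 (Ideal.mem_map_of_mem _ h1)) ?_
    show φ (MvPowerSeries.C (MvPowerSeries.constantCoeff f)) ∈ _
    rw [hφC]
    exact hvm (Ideal.mem_map_of_mem _ (CohenLib.mem_maximalIdeal_mvPowerSeries_iff.1 hf))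
  have hmBT : mB ≤ (maximalIdeal T).map φ.toRingHom := Ideal.map_le_iff_le_comap.2 fun a ha => by
    rw [Ideal.mem_comap, ← v.commutes, ← hφC]
    refine Ideal.mem_map_of_mem φ.toRingHom ?_
    rw [CohenLib.mem_maximalIdeal_mvPowerSeries_iff, MvPowerSeries.constantCoeff_C]
    exact hm.le (Ideal.mem_map_of_mem _ ha)
  have hgen : maximalIdeal B ≤ (maximalIdeal T).map φ.toRingHom := fun b hb => by
    have hb0 : Ideal.Quotient.mk mB b ∈ Ideal.span (Set.range fun i => Ideal.Quotient.mk mB (t i)) := by
      have hs' : Ideal.span (s : Set B₀) = maximalIdeal B₀ := hs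
      have : Ideal.Quotient.mk mB b ∈ Ideal.span (s : Set B₀) := hs'.ge (hmap₀.le (Ideal.mem_map_of_mem _ hb))
      refine Ideal.span_mono ?_ this
      exact fun x hx => ⟨eq.symm ⟨x, hx⟩, by beta_reduce; rw [ht, Equiv.apply_symm_apply]⟩
    obtain ⟨c, hc⟩ := Ideal.mem_span_range_iff_exists_fun.1 hb0
    choose c' hc' using fun i => Ideal.Quotient.mk_surjective (c i)
    have h3 : b - ∑ i, c' i * t i ∈ mB := by
      rw [← Ideal.Quotient.eq, map_sum, ← hc]
      exact Finset.sum_congr rfl fun i _ => by rw [map_mul, hc']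
    rw [← sub_add_cancel b (∑ i, c' i * t i)]
    refine add_mem (hmBT h3) (Ideal.sum_mem _ fun i _ => Ideal.mul_mem_left _ _ ?_)
    rw [← hφX i]
    refine Ideal.mem_map_of_mem φ.toRingHom ?_
    rw [CohenLib.mem_maximalIdeal_mvPowerSeries_iff, MvPowerSeries.constantCoeff_X]
    exact zero_mem _
  have hsurj : Function.Surjective φ := PSLib.surjective_of_first_order φ.toRingHom (I := maximalIdeal T)
    (J := maximalIdeal B) (IsNoetherian.noetherian _) (IsAdicComplete.le_jacobson_bot _) hφm
    (hgen.trans le_sup_left) fun b => by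
      obtain ⟨c, hc⟩ := hres b
      exact ⟨MvPowerSeries.C c, (hφC c).symm ▸ hc⟩
  -- injectivity
  letI : Algebra A T := ((MvPowerSeries.C : A' →+* T).comp (algebraMap A A')).toAlgebra
  let ψ : T →ₐ[A] B := { φ.toRingHom with
    commutes' := fun a => (hφC _).trans (v.commutes a) }
  have hker : RingHom.ker ψ ≤ (maximalIdeal A).map (algebraMap A T) := by
    let K := ResidueField A'
    let π : T →+* MvPowerSeries (Fin n) K := MvPowerSeries.map (residue A')
    have hπker : RingHom.ker π = (maximalIdeal A).map (algebraMap A T) := by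
      refine le_antisymm (fun g hg => ?_) (Ideal.map_le_iff_le_comap.2 fun a ha => ?_)
      · have h1 : g ∈ (maximalIdeal A').map (MvPowerSeries.C : A' →+* T) := by
          obtain ⟨s', hs'⟩ := (IsNoetherian.noetherian (maximalIdeal A') : (maximalIdeal A').FG)
          have hc : ∀ d, MvPowerSeries.coeff d g ∈ Ideal.span (Set.range fun a : s' => (a : A')) := fun d => by
            rw [show Set.range (fun a : s' => (a : A')) = (s' : Set A') from Subtype.range_coe]
            show _ ∈ Submodule.span A' (s' : Set A')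
            rw [hs', ← residue_eq_zero_iff, ← MvPowerSeries.coeff_map]
            exact (congrArg (MvPowerSeries.coeff d) (RingHom.mem_ker.1 hg)).trans (map_zero _)
          choose c hc' using fun d => Ideal.mem_span_range_iff_exists_fun.1 (hc d)
          let co : s' → T := fun a d => c d a
          rw [show g = ∑ a : s', co a * MvPowerSeries.C (a : A') by
            ext d
            rw [map_sum, ← hc' d]
            exact Finset.sum_congr rfl fun a _ => by rw [MvPowerSeries.coeff_mul_C]; rfl]
          exact Ideal.sum_mem _ fun a _ => Ideal.mul_mem_left _ _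
            (Ideal.mem_map_of_mem _ (hs'.le (Submodule.subset_span a.2)))
        rwa [← hm, Ideal.map_map] at h1
      · rw [Ideal.mem_comap, RingHom.mem_ker]
        show MvPowerSeries.map (residue A') (MvPowerSeries.C (algebraMap A A' a)) = 0
        rw [MvPowerSeries.map_C, (residue_eq_zero_iff _).2 (hm.le (Ideal.mem_map_of_mem _ ha)), map_zero]
    have hπs : Function.Surjective π := fun g => by
      choose c hc using fun d => residue_surjective (R := A') (MvPowerSeries.coeff d g)
      exact ⟨fun d => c d, MvPowerSeries.ext fun d => (MvPowerSeries.coeff_map _ _ _).trans (hc d)⟩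
    let φ₀ : T →+* B₀ := (Ideal.Quotient.mk mB).comp φ.toRingHom
    let φK : MvPowerSeries (Fin n) K →+* B₀ := RingHom.liftOfSurjective π hπs
      ⟨φ₀, hπker.le.trans (Ideal.map_le_iff_le_comap.2 fun a ha => by
        rw [Ideal.mem_comap, RingHom.mem_ker]
        show Ideal.Quotient.mk mB (φ (MvPowerSeries.C (algebraMap A A' a))) = 0
        rw [hφC, v.commutes, Ideal.Quotient.eq_zero_iff_mem]
        exact Ideal.mem_map_of_mem _ ha)⟩
    have hK : ∀ g, φK (π g) = φ₀ g := fun g => RingHom.liftOfRightInverse_comp_apply _ _ _ _ _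
    have hKs : Function.Surjective φK := fun b => by
      obtain ⟨b, rfl⟩ := Ideal.Quotient.mk_surjective b
      obtain ⟨g, rfl⟩ := hsurj b
      exact ⟨π g, hK g⟩
    have hbij := PSLib.bijective_of_surjective K n φK hKs hdim₀
    intro g hg
    rw [← hπker, RingHom.mem_ker]
    refine hbij.1 ?_
    rw [hK, map_zero]
    show Ideal.Quotient.mk mB (φ g) = 0
    rw [show φ g = 0 from hg, map_zero]
  have hinj : Function.Injective ψ := NodeLib.injective_of_flat_of_ker_le ψ hsurj (maximalIdeal A)
    ((Ideal.map_le_iff_le_comap.2 fun a ha => by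
      rw [Ideal.mem_comap, CohenLib.mem_maximalIdeal_mvPowerSeries_iff]
      show MvPowerSeries.constantCoeff (MvPowerSeries.C (algebraMap A A' a)) ∈ _
      rw [MvPowerSeries.constantCoeff_C]
      exact hm.le (Ideal.mem_map_of_mem _ ha) : (maximalIdeal A).map (algebraMap A T) ≤ maximalIdeal T).trans
        (IsLocalRing.jacobson_eq_maximalIdeal ⊥ bot_ne_top).ge) hker
  refine ⟨n, A', inferInstance, inferInstance, hN, hcomp, inferInstance, hflat,
    RingEquiv.ofBijective ψ.toRingHom ⟨hinj, hsurj⟩, hm, fun a => ψ.commutes a⟩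

end Groth.Agent.RamSam24
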