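import Groth.Agent.RamSam24.Shear
import Groth.Agent.CohenLib.PowerSeries
import Groth.Agent.CAlgOdd.PowerSeriesNormal
import Groth.Agent.S11938
import Mathlib

/-!
# Height one primes of a power series ring over a complete normal local domain
-/

set_option autoImplicit false
set_option linter.style.haveILetI false
universe u

open IsLocalRing

namespace Groth.Agent.RamSam24

theorem isIntegrallyClosed_mvPowerSeries (A : Type u) [CommRing A] [IsDomain A] [IsNoetherianRing A]
    [IsIntegrallyClosed A] : ∀ r : ℕ, IsIntegrallyClosed (MvPowerSeries (Fin r) A)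
  | 0 => by
    have h0 : ∀ f : MvPowerSeries (Fin 0) A, MvPowerSeries.C (MvPowerSeries.constantCoeff f) = f := fun f => by
      ext d
      rw [show d = 0 from Subsingleton.elim _ _, MvPowerSeries.coeff_zero_eq_constantCoeff,
        MvPowerSeries.constantCoeff_C]
    exact IsIntegrallyClosed.of_equiv
      (RingEquiv.ofBijective MvPowerSeries.C ⟨MvPowerSeries.C_injective, fun f => ⟨_, h0 f⟩⟩)
  | r + 1 => by
    haveI := isIntegrallyClosed_mvPowerSeries A r
    haveI : IsDomain (MvPowerSeries (Fin r) A) := NoZeroDivisors.to_isDomain _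
    haveI := Groth.Agent.CAlgOdd.powerSeries_isIntegrallyClosed (R := MvPowerSeries (Fin r) A)
    exact IsIntegrallyClosed.of_equiv (MvPowerSeries.finSuccEquiv A r).toRingEquiv.symm

variable {B : Type u} [CommRing B] [IsDomain B] [IsNoetherianRing B] [IsLocalRing B] [IsIntegrallyClosed B]
  [IsAdicComplete (maximalIdeal B) B]

/-- A height one prime of `B⟦T⟧` with an element regular in `T` is principal. -/
theorem isPrincipal_of_regular (q : Ideal (PowerSeries B)) [q.IsPrime] (hq : q.height = 1)
    {f : PowerSeries B} (hf : f ∈ q) (hres : f.map (residue B) ≠ 0) : Submodule.IsPrincipal q := by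
  classical
  have hqm : ¬ q ≤ (maximalIdeal B).map (PowerSeries.C : B →+* PowerSeries B) := fun hle => by
    have hker : (maximalIdeal B).map (PowerSeries.C : B →+* PowerSeries B) ≤
        RingHom.ker (PowerSeries.map (residue B)) :=
      Ideal.map_le_iff_le_comap.2 fun a ha => by
        rw [Ideal.mem_comap, RingHom.mem_ker, PowerSeries.map_C, (residue_eq_zero_iff a).2 ha, map_zero]
    exact hres (RingHom.mem_ker.1 (hker (hle hf)))
  obtain ⟨hfin, hgen⟩ := S11938.result B q hqm
  obtain ⟨P, h, hfac⟩ := PowerSeries.exists_isWeierstrassFactorization hres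
  have hPq : (P : PowerSeries B) ∈ q := by
    have := hf
    rw [hfac.eq_mul] at this
    exact (Ideal.mul_unit_mem_iff_mem _ hfac.isUnit).1 this
  have hmon : P.Monic := hfac.isDistinguishedAt.monic
  let S := PowerSeries B ⧸ Ideal.span {(P : PowerSeries B)}
  haveI : Module.Free B (Polynomial B ⧸ Ideal.span {P}) := hmon.free_quotient
  haveI : Module.Flat B S :=
    Module.Flat.of_linearEquiv hfac.isDistinguishedAt.algEquivQuotient.toLinearEquiv.symm
  let π : PowerSeries B →+* S := Ideal.Quotient.mk _
  have hkq : RingHom.ker π ≤ q := by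
    rw [Ideal.mk_ker, Ideal.span_singleton_le_iff_mem]; exact hPq
  haveI : (q.map π).IsPrime := Ideal.map_isPrime_of_surjective Ideal.Quotient.mk_surjective hkq
  have hcm : (q.map π).comap π = q := by
    rw [Ideal.comap_map_of_surjective _ Ideal.Quotient.mk_surjective]
    exact sup_eq_left.2 hkq
  have hcomap : q.comap (PowerSeries.C : B →+* PowerSeries B) = ⊥ := by
    by_contra hne
    have hlt : (⊥ : Ideal B) < (q.map π).under B := by
      refine bot_lt_iff_ne_bot.2 fun h0 => hne (le_bot_iff.1 fun b hb => ?_)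
      rw [← h0]
      exact Ideal.mem_map_of_mem π hb
    obtain ⟨P', hP'lt, hP', -⟩ := Ideal.exists_ideal_lt_liesOver_of_lt (R := B) (q.map π) (p := ⊥) hlt
    haveI := hP'
    have h1 : P'.comap π < q := by
      refine lt_of_le_of_ne (hcm ▸ Ideal.comap_mono hP'lt.le) fun h1 => hP'lt.ne ?_
      rw [← h1, Ideal.map_comap_of_surjective _ Ideal.Quotient.mk_surjective]
    have h2 : (⊥ : Ideal (PowerSeries B)) < P'.comap π := by
      refine bot_lt_iff_ne_bot.2 fun h0 => hmon.ne_zero ?_
      have : (P : PowerSeries B) ∈ P'.comap π := by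
        rw [Ideal.mem_comap, show π (P : PowerSeries B) = 0 from
          Ideal.Quotient.eq_zero_iff_mem.2 (Ideal.mem_span_singleton_self _)]
        exact zero_mem _
      rw [h0, Ideal.mem_bot] at this
      exact Polynomial.coe_eq_zero_iff.1 this
    have h3 := Ideal.height_strict_mono_of_isPrime_of_isPrime h1
    have h4 := Ideal.height_strict_mono_of_isPrime_of_isPrime h2
    rw [Ideal.height_bot] at h4
    rw [hq] at h3
    exact absurd h3 (not_lt.2 (Order.one_le_iff_pos.2 h4))
  let J := q.comap (Polynomial.coeToPowerSeries.ringHom : Polynomial B →+* PowerSeries B)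
  haveI : J.IsPrime := Ideal.comap_isPrime _ _
  let L := Polynomial B ⧸ J
  haveI : IsDomain L := Ideal.Quotient.isDomain J
  haveI : Module.Finite B L := hfin
  have hinj : Function.Injective (algebraMap B L) := by
    rw [injective_iff_map_eq_zero]
    intro b hb
    have hbJ : (Polynomial.C b) ∈ J := Ideal.Quotient.eq_zero_iff_mem.1 hb
    have hbq : b ∈ q.comap (PowerSeries.C : B →+* PowerSeries B) := by
      rw [Ideal.mem_comap]
      rw [Ideal.mem_comap, Polynomial.coeToPowerSeries.ringHom_apply, Polynomial.coe_C] at hbJ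
      exact hbJ
    rwa [hcomap, Ideal.mem_bot] at hbq
  haveI : FaithfulSMul B L := (faithfulSMul_iff_algebraMap_injective B L).2 hinj
  let x : L := Ideal.Quotient.mk J Polynomial.X
  have hx : IsIntegral B x := IsIntegral.of_finite B x
  have hJ : J = Ideal.span {minpoly B x} := by
    rw [← minpoly.ker_eval hx]
    have : Polynomial.aeval x = Ideal.Quotient.mkₐ B J := Polynomial.algHom_ext (by rw [Polynomial.aeval_X]; rfl)
    rw [this]
    ext p
    exact Ideal.Quotient.eq_zero_iff_mem.symm
  refine ⟨⟨(minpoly B x : PowerSeries B), ?_⟩⟩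
  refine hgen.symm.trans ((congrArg (Ideal.map _) hJ).trans ?_)
  rw [Ideal.map_span, Set.image_singleton]
  rfl

/-- The Ramanujam–Samuel theorem on height one primes. -/
theorem isPrincipal_mvPowerSeries (A : Type u) [CommRing A] [IsDomain A] [IsNoetherianRing A] [IsLocalRing A]
    [IsIntegrallyClosed A] [IsAdicComplete (maximalIdeal A) A] (r : ℕ)
    (q : Ideal (MvPowerSeries (Fin (r + 1)) A)) [q.IsPrime] (hq : q.height = 1)
    (hqm : ¬ q ≤ (maximalIdeal A).map (MvPowerSeries.C : A →+* MvPowerSeries (Fin (r + 1)) A)) :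
    Submodule.IsPrincipal q := by
  classical
  obtain ⟨f, hfq, d, hd⟩ : ∃ f ∈ q, ∃ d, IsUnit (MvPowerSeries.coeff d f) := by
    by_contra hcon
    refine hqm fun g hg => ?_
    obtain ⟨s, hs⟩ := (IsNoetherian.noetherian (maximalIdeal A) : (maximalIdeal A).FG)
    have hc : ∀ d, MvPowerSeries.coeff d g ∈ Ideal.span (Set.range fun a : s => (a : A)) := fun d => by
      rw [show Set.range (fun a : s => (a : A)) = (s : Set A) from Subtype.range_coe]
      show _ ∈ Submodule.span A (s : Set A)
      rw [hs]
      exact (IsLocalRing.mem_maximalIdeal _).2 fun hu => hcon ⟨g, hg, d, hu⟩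
    choose c hc' using fun d => Ideal.mem_span_range_iff_exists_fun.1 (hc d)
    let co : s → MvPowerSeries (Fin (r + 1)) A := fun a d => c d a
    rw [show g = ∑ a : s, co a * MvPowerSeries.C (a : A) by
      ext d
      rw [map_sum, ← hc' d]
      exact Finset.sum_congr rfl fun a _ => by rw [MvPowerSeries.coeff_mul_C]; rfl]
    exact Ideal.sum_mem _ fun a _ => Ideal.mul_mem_left _ _ (Ideal.mem_map_of_mem _ (hs.le (Submodule.subset_span a.2)))
  obtain ⟨w, hw, N, hN⟩ := exists_regular f hd
  let ψ : MvPowerSeries (Fin (r + 1)) A ≃+* PowerSeries (MvPowerSeries (Fin r) A) :=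
    (shearEquiv w hw).trans (MvPowerSeries.finSuccEquiv A r).toRingEquiv
  haveI : IsDomain (MvPowerSeries (Fin r) A) := NoZeroDivisors.to_isDomain _
  haveI := isIntegrallyClosed_mvPowerSeries A r
  haveI := CohenLib.isAdicComplete_mvPowerSeries (Λ := A) (n := r)
  haveI : (q.map ψ).IsPrime := Ideal.map_isPrime_of_equiv ψ
  have hres : (ψ f).map (residue (MvPowerSeries (Fin r) A)) ≠ 0 := fun h0 => by
    have := congrArg (PowerSeries.coeff N) h0
    rw [PowerSeries.coeff_map, map_zero, residue_eq_zero_iff] at this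
    exact (IsLocalRing.mem_maximalIdeal _).1 this (MvPowerSeries.isUnit_iff_constantCoeff.2 hN)
  obtain ⟨⟨g, hg⟩⟩ := isPrincipal_of_regular (q.map ψ) (by rw [RingEquiv.height_map, hq])
    (Ideal.mem_map_of_mem ψ hfq) hres
  refine ⟨⟨ψ.symm g, ?_⟩⟩
  have := congrArg (Ideal.map ψ.symm) (show q.map ψ = Ideal.span {g} from hg)
  rw [Ideal.map_span, Set.image_singleton, Ideal.map_symm, Ideal.comap_map_of_bijective ψ ψ.bijective] at this
  exact this

end Groth.Agent.RamSam24
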