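import Groth.Agent.RamSam24.Loc
import Groth.Agent.RamSam24.Main
import Groth.Agent.S2865

/-!
# Localizations of `A⟦T₁, …, Tₙ⟧` off the special fibre
-/

set_option autoImplicit false
set_option linter.style.haveILetI false
universe u

open IsLocalRing

namespace Groth.Agent.RamSam24

/-- Parafactoriality passes along ring isomorphisms. -/
theorem isParafactorial_of_ringEquiv {R S : Type u} [CommRing R] [CommRing S] [IsNoetherianRing R]
    [IsNoetherianRing S] [IsLocalRing R] [IsLocalRing S] (e : R ≃+* S) (h : ParaF.IsParafactorialLocalRing S) :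
    ParaF.IsParafactorialLocalRing R := by
  letI : Algebra R S := e.toRingHom.toAlgebra
  haveI : IsLocalHom (algebraMap R S) := ⟨fun x hx => by
    have h2 := IsUnit.map e.symm hx
    rwa [show e.symm (algebraMap R S x) = x from e.symm_apply_apply x] at h2⟩
  haveI : Module.Flat R S := RingHom.Flat.of_bijective (f := e.toRingHom) e.bijective
  refine S2865.result R S ?_ h
  have hm : (maximalIdeal R).map (algebraMap R S) = maximalIdeal S := by
    haveI := Ideal.map_isMaximal_of_equiv e (p := maximalIdeal R)
    exact IsLocalRing.eq_maximalIdeal (show ((maximalIdeal R).map e).IsMaximal from inferInstance)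
  rw [hm]
  exact ringKrullDim_eq_zero_of_isField ((Ideal.Quotient.maximal_ideal_iff_isField_quotient _).1 inferInstance)

/-- The theorem of Ramanujam and Samuel: parafactoriality off the special fibre. -/
theorem isParafactorial_mvPowerSeries (A : Type u) [CommRing A] [IsDomain A] [IsNoetherianRing A] [IsLocalRing A]
    [IsIntegrallyClosed A] [IsAdicComplete (maximalIdeal A) A] (r : ℕ)
    (q : Ideal (MvPowerSeries (Fin (r + 1)) A)) [q.IsPrime]
    (hqm : ¬ q ≤ (maximalIdeal A).map (MvPowerSeries.C : A →+* MvPowerSeries (Fin (r + 1)) A))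
    (hdim : (2 : WithBot ℕ∞) ≤ ringKrullDim (Localization.AtPrime q)) :
    ParaF.IsParafactorialLocalRing (Localization.AtPrime q) := by
  classical
  obtain ⟨f, hfq, d, hd⟩ : ∃ f ∈ q, ∃ d, IsUnit (MvPowerSeries.coeff d f) := by
    by_contra hcon
    refine hqm fun g hg => ?_
    obtain ⟨s, hs⟩ := (IsNoetherian.noetherian (maximalIdeal A) : (maximalIdeal A).FG)
    have hc : ∀ d, MvPowerSeries.coeff d g ∈ Ideal.span (Set.range fun a : s => (a : A)) := fun d => by
      rw [show Set.range (fun a : s => (a : A)) = (s : Set A) from Subtype.range_coe]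
      show _ ∈ Submodule.span A (s : Set A)
      rw [hs]
      exact (IsLocalRing.mem_maximalIdeal _).2 fun hu => hcon ⟨g, hg, d, hu⟩
    choose c hc' using fun d => Ideal.mem_span_range_iff_exists_fun.1 (hc d)
    let co : s → MvPowerSeries (Fin (r + 1)) A := fun a d => c d a
    rw [show g = ∑ a : s, co a * MvPowerSeries.C (a : A) by
      ext d
      rw [map_sum, ← hc' d]
      exact Finset.sum_congr rfl fun a _ => by rw [MvPowerSeries.coeff_mul_C]; rfl]
    exact Ideal.sum_mem _ fun a _ => Ideal.mul_mem_left _ _ (Ideal.mem_map_of_mem _ (hs.le (Submodule.subset_span a.2)))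
  obtain ⟨w, hw, N, hN⟩ := exists_regular f hd
  let B := MvPowerSeries (Fin r) A
  let ψ : MvPowerSeries (Fin (r + 1)) A ≃+* PowerSeries B :=
    (shearEquiv w hw).trans (MvPowerSeries.finSuccEquiv A r).toRingEquiv
  haveI : IsDomain (MvPowerSeries (Fin r) A) := NoZeroDivisors.to_isDomain _
  haveI := isIntegrallyClosed_mvPowerSeries A r
  haveI := CohenLib.isAdicComplete_mvPowerSeries (Λ := A) (n := r)
  haveI : (q.map ψ).IsPrime := Ideal.map_isPrime_of_equiv ψ
  have hres : (ψ f).map (residue (MvPowerSeries (Fin r) A)) ≠ 0 := fun h0 => by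
    have := congrArg (PowerSeries.coeff N) h0
    rw [PowerSeries.coeff_map, map_zero, residue_eq_zero_iff] at this
    exact (IsLocalRing.mem_maximalIdeal _).1 this (MvPowerSeries.isUnit_iff_constantCoeff.2 hN)
  obtain ⟨D, h, hfac⟩ := PowerSeries.exists_isWeierstrassFactorization hres
  have hDQ : (D : PowerSeries B) ∈ q.map ψ := by
    have := Ideal.mem_map_of_mem ψ hfq
    rw [hfac.eq_mul] at this
    exact (Ideal.mul_unit_mem_iff_mem _ hfac.isUnit).1 this
  have hM : q.primeCompl.map ψ.toRingHom.toMonoidHom = (q.map ψ).primeCompl := by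
    ext x
    constructor
    · rintro ⟨y, hy, rfl⟩ hx
      refine hy ?_
      obtain ⟨z, hz, e⟩ := (Ideal.mem_map_iff_of_surjective ψ ψ.surjective).1 (show ψ y ∈ q.map ψ from hx)
      rwa [← ψ.injective e]
    · intro hx
      obtain ⟨y, rfl⟩ := ψ.surjective x
      exact ⟨y, fun hy => hx (Ideal.mem_map_of_mem ψ hy), rfl⟩
  let e : Localization.AtPrime q ≃+* Localization.AtPrime (q.map ψ) :=
    IsLocalization.ringEquivOfRingEquiv _ _ ψ hM
  haveI : IsNoetherianRing (Localization.AtPrime q) := IsLocalization.isNoetherianRing q.primeCompl _ inferInstance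
  haveI : IsNoetherianRing (Localization.AtPrime (q.map ψ)) :=
    IsLocalization.isNoetherianRing (q.map ψ).primeCompl _ inferInstance
  refine isParafactorial_of_ringEquiv e (isParafactorial_localization_of_distinguished hfac.isDistinguishedAt _ hDQ ?_)
  rwa [← ringKrullDim_eq_of_ringEquiv e]

end Groth.Agent.RamSam24
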