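import Groth.Agent.RamSam24.Loc
import Groth.Agent.RamSam24.MvLoc
import Groth.Agent.RamSam24.FSStruct

/-!
# Parafactorial localizations of power series rings over flat complete algebras
-/

set_option autoImplicit false
set_option linter.style.haveILetI false
universe u

open IsLocalRing

namespace Groth.Agent.RamSam24

theorem depth_eq_of_ringEquiv {R S : Type u} [CommRing R] [CommRing S] [IsLocalRing R] [IsLocalRing S]
    (e : R ≃+* S) : LocCoh.depth R R = LocCoh.depth S S :=
  Alg6.depth_eq_of_semilinear e.toRingHom e.surjective e.toAddEquiv fun r x => map_mul e r x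

/-- Off the special fibre, a local ring of `A'⟦T₁, …, Tₙ⟧` is parafactorial if it has depth at least three or
lies over a point of depth at least two of a ring `A` over which `A'` is flat. -/
theorem isParafactorial_mvPowerSeries_of_depth {A A' : Type u} [CommRing A] [IsNoetherianRing A]
    [CommRing A'] [IsNoetherianRing A'] [IsLocalRing A'] [IsAdicComplete (maximalIdeal A') A'] [Algebra A A']
    [Module.Flat A A'] (n : ℕ) (q : Ideal (MvPowerSeries (Fin n) A')) [q.IsPrime]
    (hqm : ¬ q ≤ (maximalIdeal A').map (MvPowerSeries.C : A' →+* MvPowerSeries (Fin n) A'))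
    (hd : (3 : ℕ∞) ≤ LocCoh.depth (Localization.AtPrime q) (Localization.AtPrime q) ∨
      (2 : ℕ∞) ≤ LocCoh.depth
        (Localization.AtPrime (q.comap ((MvPowerSeries.C : A' →+* MvPowerSeries (Fin n) A').comp (algebraMap A A'))))
        (Localization.AtPrime (q.comap ((MvPowerSeries.C : A' →+* MvPowerSeries (Fin n) A').comp (algebraMap A A'))))) :
    ParaF.IsParafactorialLocalRing (Localization.AtPrime q) := by
  classical
  rcases n with _ | r
  · exfalso
    refine hqm fun g hg => ?_
    have h0 : MvPowerSeries.C (MvPowerSeries.constantCoeff g) = g := by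
      ext d
      rw [show d = 0 from Subsingleton.elim _ _, MvPowerSeries.coeff_zero_eq_constantCoeff,
        MvPowerSeries.constantCoeff_C]
    rw [← h0]
    refine Ideal.mem_map_of_mem _ ((IsLocalRing.mem_maximalIdeal _).2 fun hu => ?_)
    exact (inferInstance : q.IsPrime).ne_top (Ideal.eq_top_of_isUnit_mem _ hg (MvPowerSeries.isUnit_iff_constantCoeff.2 hu))
  obtain ⟨f, hfq, d, hd'⟩ : ∃ f ∈ q, ∃ d, IsUnit (MvPowerSeries.coeff d f) := by
    by_contra hcon
    refine hqm fun g hg => ?_
    obtain ⟨s, hs⟩ := (IsNoetherian.noetherian (maximalIdeal A') : (maximalIdeal A').FG)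
    have hc : ∀ d, MvPowerSeries.coeff d g ∈ Ideal.span (Set.range fun a : s => (a : A')) := fun d => by
      rw [show Set.range (fun a : s => (a : A')) = (s : Set A') from Subtype.range_coe]
      show _ ∈ Submodule.span A' (s : Set A')
      rw [hs]
      exact (IsLocalRing.mem_maximalIdeal _).2 fun hu => hcon ⟨g, hg, d, hu⟩
    choose c hc' using fun d => Ideal.mem_span_range_iff_exists_fun.1 (hc d)
    let co : s → MvPowerSeries (Fin (r + 1)) A' := fun a d => c d a
    rw [show g = ∑ a : s, co a * MvPowerSeries.C (a : A') by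
      ext d
      rw [map_sum, ← hc' d]
      exact Finset.sum_congr rfl fun a _ => by rw [MvPowerSeries.coeff_mul_C]; rfl]
    exact Ideal.sum_mem _ fun a _ => Ideal.mul_mem_left _ _ (Ideal.mem_map_of_mem _ (hs.le (Submodule.subset_span a.2)))
  obtain ⟨w, hw, N, hN⟩ := exists_regular f hd'
  let B := MvPowerSeries (Fin r) A'
  let ψ : MvPowerSeries (Fin (r + 1)) A' ≃+* PowerSeries B :=
    (shearEquiv w hw).trans (MvPowerSeries.finSuccEquiv A' r).toRingEquiv
  have hψC : ∀ a : A', ψ (MvPowerSeries.C a) = PowerSeries.C (MvPowerSeries.C a : B) := fun a => by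
    show MvPowerSeries.finSuccEquiv A' r (shearEquiv w hw (MvPowerSeries.C a)) = _
    rw [shearEquiv_apply, MvPowerSeries.subst_C]
    have h1 := (MvPowerSeries.finSuccEquiv A' r).commutes a
    simpa [MvPowerSeries.algebraMap_apply, PowerSeries.algebraMap_apply] using h1
  haveI := CohenLib.isAdicComplete_mvPowerSeries (Λ := A') (n := r)
  haveI : (q.map ψ).IsPrime := Ideal.map_isPrime_of_equiv ψ
  have hres : (ψ f).map (residue (MvPowerSeries (Fin r) A')) ≠ 0 := fun h0 => by
    have := congrArg (PowerSeries.coeff N) h0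
    rw [PowerSeries.coeff_map, map_zero, residue_eq_zero_iff] at this
    exact (IsLocalRing.mem_maximalIdeal _).1 this (MvPowerSeries.isUnit_iff_constantCoeff.2 hN)
  obtain ⟨D, h, hfac⟩ := PowerSeries.exists_isWeierstrassFactorization hres
  have hDQ : (D : PowerSeries B) ∈ q.map ψ := by
    have := Ideal.mem_map_of_mem ψ hfq
    rw [hfac.eq_mul] at this
    exact (Ideal.mul_unit_mem_iff_mem _ hfac.isUnit).1 this
  have hmemψ : ∀ y, ψ y ∈ q.map ψ ↔ y ∈ q := fun y => by
    refine ⟨fun hy => ?_, fun hy => Ideal.mem_map_of_mem ψ hy⟩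
    obtain ⟨z, hz, e⟩ := (Ideal.mem_map_iff_of_surjective ψ ψ.surjective).1 hy
    rwa [← ψ.injective e]
  have hM : q.primeCompl.map ψ.toRingHom.toMonoidHom = (q.map ψ).primeCompl := by
    ext x
    constructor
    · rintro ⟨y, hy, rfl⟩ hx
      exact hy ((hmemψ y).1 hx)
    · intro hx
      obtain ⟨y, rfl⟩ := ψ.surjective x
      exact ⟨y, fun hy => hx (Ideal.mem_map_of_mem ψ hy), rfl⟩
  let e : Localization.AtPrime q ≃+* Localization.AtPrime (q.map ψ) :=
    IsLocalization.ringEquivOfRingEquiv _ _ ψ hM
  haveI : IsNoetherianRing (Localization.AtPrime q) := IsLocalization.isNoetherianRing q.primeCompl _ inferInstance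
  haveI : IsNoetherianRing (Localization.AtPrime (q.map ψ)) :=
    IsLocalization.isNoetherianRing (q.map ψ).primeCompl _ inferInstance
  refine isParafactorial_of_ringEquiv e (isParafactorial_of_two_le_depth hfac.isDistinguishedAt _ hDQ ?_)
  rcases hd with h3 | h2
  · exact Or.inr (depth_eq_of_ringEquiv e ▸ h3)
  · left
    let g : A →+* B := (MvPowerSeries.C : A' →+* B).comp (algebraMap A A')
    have hg : g.Flat := by
      haveI := CplFib6.flat_mvPowerSeries A' r
      exact (RingHom.flat_algebraMap_iff.2 (inferInstance : Module.Flat A A')).comp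
        (RingHom.flat_algebraMap_iff (R := A') (S := B) |>.2 inferInstance)
    let p' : Ideal B := ((q.map ψ).comap toPS).comap (Polynomial.C : B →+* Polynomial B)
    let p : Ideal A := q.comap ((MvPowerSeries.C : A' →+* MvPowerSeries (Fin (r + 1)) A').comp (algebraMap A A'))
    have hpp : p = p'.comap g := by
      ext a
      simp only [p, p', g, Ideal.mem_comap, RingHom.comp_apply, toPS, Polynomial.coeToPowerSeries.ringHom_apply,
        Polynomial.coe_C]
      rw [← hψC, hmemψ]
    haveI : IsNoetherianRing (Localization.AtPrime p) := IsLocalization.isNoetherianRing p.primeCompl _ inferInstance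
    haveI : IsNoetherianRing (Localization.AtPrime p') := IsLocalization.isNoetherianRing p'.primeCompl _ inferInstance
    exact le_trans h2 (depth_le_of_flat (Localization.localRingHom p p' g hpp) (hg.localRingHom p' p hpp)
      (Localization.isLocalHom_localRingHom p p' g hpp))

end Groth.Agent.RamSam24
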