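import Groth.Prelude.Def_FEt
import Groth.Agent.ParaFX.Ufd
import Mathlib

/-!
# Gluing elements of the local rings along a punctured spectrum of depth two
-/

set_option autoImplicit false
set_option backward.isDefEq.respectTransparency false
set_option backward.isDefEq.respectTransparency.types false
set_option linter.style.haveILetI false
universe u

open CategoryTheory AlgebraicGeometry IsLocalRing TopologicalSpace

namespace Groth.Agent.RamSam24

/-- An element vanishing at all primes off `g` is killed by a power of `g`. -/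
theorem exists_pow_mul_eq_zero {A : Type u} [CommRing A] (g x : A)
    (h : ∀ q : PrimeSpectrum A, g ∉ q.asIdeal → algebraMap A (Localization.AtPrime q.asIdeal) x = 0) :
    ∃ n : ℕ, g ^ n * x = 0 := by
  have hg : g ∈ (Ideal.torsionOf A A x).radical := by
    rw [Ideal.radical_eq_sInf]
    refine Submodule.mem_sInf.2 fun P ⟨hP, hPp⟩ => ?_
    by_contra hgP
    haveI := hPp
    obtain ⟨⟨s, hs⟩, e⟩ := (IsLocalization.map_eq_zero_iff (Ideal.primeCompl P) _ x).1 (h ⟨P, hPp⟩ hgP)
    exact hs (hP ((Ideal.mem_torsionOf_iff x s).2 (by simpa using e)))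
  obtain ⟨n, hn⟩ := hg
  exact ⟨n, by simpa [Ideal.mem_torsionOf_iff] using hn⟩

noncomputable section

/-- Sections over an open of an affine scheme as an algebra. -/
abbrev secAlg (A : Type u) [CommRing A] (W : (Spec (CommRingCat.of A)).Opens) : Algebra A Γ(Spec (CommRingCat.of A), W) :=
  RingHom.toAlgebra (R := A) ((Scheme.ΓSpecIso (CommRingCat.of A)).inv ≫ (Spec (CommRingCat.of A)).presheaf.map (homOfLE (le_top : W ≤ ⊤)).op).hom
attribute [local instance] secAlg
/-- A basic open as an open of the scheme. -/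
def bOpen (A : Type u) [CommRing A] (g : A) : (Spec (CommRingCat.of A)).Opens := PrimeSpectrum.basicOpen g
theorem secAlg_away (A : Type u) [CommRing A] (g : A) :
    IsLocalization.Away g Γ(Spec (CommRingCat.of A), bOpen A g) := by
  convert! StructureSheaf.IsLocalization.to_basicOpen A g using 1
  apply Algebra.algebra_ext
  intro _
  rfl
theorem secAlg_res (A : Type u) [CommRing A] {V W : (Spec (CommRingCat.of A)).Opens} (h : V ≤ W) (r : A) :
    (Spec (CommRingCat.of A)).presheaf.map (homOfLE h).op (algebraMap A Γ(Spec (CommRingCat.of A), W) r) =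
      algebraMap A Γ(Spec (CommRingCat.of A), V) r := by
  simp only [RingHom.algebraMap_toAlgebra, CommRingCat.hom_comp, RingHom.comp_apply]
  rw [← ConcreteCategory.comp_apply, ← Functor.map_comp]
  rfl

/-- Compatible fractions on the punctured spectrum come from an element of the ring. -/
theorem glue_punctured (A : Type u) [CommRing A] [IsNoetherianRing A] [IsLocalRing A]
    (hd : (2 : ℕ∞) ≤ LocCoh.depth A A)
    (c : ∀ p : PrimeSpectrum A, p ≠ closedPoint A → Localization.AtPrime p.asIdeal)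
    (hc : ∀ (p : PrimeSpectrum A) (_ : p ≠ closedPoint A), ∃ g b a : A, g ∉ p.asIdeal ∧ b ∉ p.asIdeal ∧
      ∀ (q : PrimeSpectrum A) (hq : q ≠ closedPoint A), g ∉ q.asIdeal →
        algebraMap A _ b * c q hq = algebraMap A _ a) :
    ∃ x : A, ∀ (p : PrimeSpectrum A) (hp : p ≠ closedPoint A),
      algebraMap A (Localization.AtPrime p.asIdeal) x = c p hp := by
  classical
  let X := Spec (CommRingCat.of A)
  letI : ∀ W : X.Opens, Algebra A Γ(X, W) := fun W => secAlg A W
  let U : X.Opens := FEt.puncturedSpec A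
  let bo : A → X.Opens := fun g => bOpen A g
  let I := {p : PrimeSpectrum A // p ≠ closedPoint A}
  have hG : ∀ p : I, ∃ G b a : A, G ∈ maximalIdeal A ∧ G ∉ p.1.asIdeal ∧ b ∣ G ∧
      ∀ (q : PrimeSpectrum A) (hq : q ≠ closedPoint A), G ∉ q.asIdeal →
        algebraMap A _ b * c q hq = algebraMap A _ a := by
    intro p
    obtain ⟨g, b, a, hg, hb, h⟩ := hc p.1 p.2
    obtain ⟨m, hm, hmp⟩ : ∃ m ∈ maximalIdeal A, m ∉ p.1.asIdeal := SetLike.not_le_iff_exists.1 fun hle =>
      p.2 (PrimeSpectrum.ext (le_antisymm (le_maximalIdeal p.1.isPrime.ne_top) hle))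
    refine ⟨g * b * m, b, a, Ideal.mul_mem_left _ _ hm, fun hmem => ?_, (dvd_mul_left b g).mul_right m,
      fun q hq hGq => h q hq fun hgq => hGq (Ideal.mul_mem_right _ _ (Ideal.mul_mem_right _ _ hgq))⟩
    rcases p.1.isPrime.mem_or_mem hmem with h' | h'
    · exact (p.1.isPrime.mem_or_mem h').elim hg hb
    · exact hmp h'
  choose G b a hGm hGp hbG hG using hG
  have hbU : ∀ p : I, bo (G p) ≤ U := fun p x hx hxU => by
    rw [Set.mem_singleton_iff.1 hxU] at hx
    exact hx (hGm p)
  have res_alg : ∀ {V W : X.Opens} (h : V ≤ W) (r : A),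
      X.presheaf.map (homOfLE h).op (algebraMap A Γ(X, W) r) = algebraMap A Γ(X, V) r := fun {V W} h r =>
    secAlg_res A h r
  have hloc : ∀ g : A, IsLocalization.Away g Γ(X, bo g) := fun g => secAlg_away A g
  haveI hlocG : ∀ p : I, IsLocalization.Away (G p) Γ(X, bo (G p)) := fun p => hloc (G p)
  have hbu : ∀ p : I, IsUnit (algebraMap A Γ(X, bo (G p)) (b p)) := fun p =>
    isUnit_of_dvd_unit (map_dvd _ (hbG p)) (IsLocalization.Away.algebraMap_isUnit (G p))
  let z : ∀ p : I, Γ(X, bo (G p)) := fun p =>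
    algebraMap A _ (a p) * ((hbu p).unit⁻¹ : (Γ(X, bo (G p)))ˣ)
  have hz : ∀ p : I, algebraMap A _ (b p) * z p = algebraMap A _ (a p) := fun p => by
    simp only [z]
    rw [mul_comm, mul_assoc]
    simp
  have hcompat : TopCat.Presheaf.IsCompatible X.sheaf.obj (fun p => bo (G p)) z := fun p q => by
    show X.presheaf.map (homOfLE (inf_le_left : bo (G p) ⊓ bo (G q) ≤ bo (G p))).op (z p) =
      X.presheaf.map (homOfLE (inf_le_right : bo (G p) ⊓ bo (G q) ≤ bo (G q))).op (z q)
    have hW : bo (G p * G q) = bo (G p) ⊓ bo (G q) := PrimeSpectrum.basicOpen_mul _ _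
    haveI : IsLocalization.Away (G p * G q) Γ(X, bo (G p) ⊓ bo (G q)) := hW ▸ hloc (G p * G q)
    obtain ⟨n, hn⟩ := exists_pow_mul_eq_zero (G p * G q) (a p * b q - a q * b p) fun r hr => by
      have hrU : r ≠ closedPoint A := fun e => hr (Ideal.mul_mem_right _ _ (e ▸ hGm p))
      have h1 := hG p r hrU fun h => hr (Ideal.mul_mem_right _ _ h)
      have h2 := hG q r hrU fun h => hr (Ideal.mul_mem_left _ _ h)
      rw [map_sub, map_mul, map_mul, ← h1, ← h2]
      ring
    have h0 := congrArg (algebraMap A Γ(X, bo (G p) ⊓ bo (G q))) hn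
    rw [map_mul, map_pow, map_zero, ((IsLocalization.Away.algebraMap_isUnit (G p * G q)).pow n).mul_right_eq_zero,
      map_sub, sub_eq_zero, map_mul, map_mul] at h0
    have e1 := congrArg (X.presheaf.map (homOfLE (inf_le_left : bo (G p) ⊓ bo (G q) ≤ bo (G p))).op) (hz p)
    have e2 := congrArg (X.presheaf.map (homOfLE (inf_le_right : bo (G p) ⊓ bo (G q) ≤ bo (G q))).op) (hz q)
    have u1 := (hbu p).map (X.presheaf.map (homOfLE (inf_le_left : bo (G p) ⊓ bo (G q) ≤ bo (G p))).op).hom
    have u2 := (hbu q).map (X.presheaf.map (homOfLE (inf_le_right : bo (G p) ⊓ bo (G q) ≤ bo (G q))).op).hom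
    rw [map_mul, res_alg, res_alg] at e1 e2
    rw [res_alg] at u1 u2
    refine (u1.mul u2).mul_left_cancel ?_
    linear_combination algebraMap A Γ(X, bo (G p) ⊓ bo (G q)) (b q) * e1 -
      algebraMap A Γ(X, bo (G p) ⊓ bo (G q)) (b p) * e2 + h0
  have hcov : U ≤ ⨆ p, bo (G p) := fun x hx => Opens.mem_iSup.2 ⟨⟨x, hx⟩, hGp ⟨x, hx⟩⟩
  obtain ⟨t, ht, -⟩ := X.sheaf.existsUnique_gluing' _ U (fun p => homOfLE (hbU p)) hcov z hcompat
  obtain ⟨g₀, hg₀⟩ := (ParaFX.punctured_bijective A hd).2 t
  obtain ⟨x, rfl⟩ := (ConcreteCategory.bijective_of_isIso (Scheme.ΓSpecIso (CommRingCat.of A)).inv).2 g₀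
  refine ⟨x, fun p hp => ?_⟩
  let i : I := ⟨p, hp⟩
  have hx : algebraMap A Γ(X, bo (G i)) x = z i := by
    have htop : algebraMap A Γ(X, U) x = t := hg₀
    rw [← res_alg (hbU i), htop]
    exact ht i
  have e := hz i
  rw [← hx, ← map_mul] at e
  obtain ⟨⟨_, n, rfl⟩, hn⟩ := (IsLocalization.eq_iff_exists (Submonoid.powers (G i)) _).1 e
  have hGu : IsUnit (algebraMap A (Localization.AtPrime p.asIdeal) (G i ^ n)) :=
    IsLocalization.map_units (M := p.asIdeal.primeCompl) _ ⟨_, fun h => hGp i (p.isPrime.mem_of_pow_mem n h)⟩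
  have hn' := congrArg (algebraMap A (Localization.AtPrime p.asIdeal)) hn
  simp only [map_mul] at hn'
  have hb' : IsUnit (algebraMap A (Localization.AtPrime p.asIdeal) (b i)) :=
    IsLocalization.map_units (M := p.asIdeal.primeCompl) _
      ⟨_, fun h => hGp i (Ideal.mem_of_dvd _ (hbG i) h)⟩
  refine hb'.mul_left_cancel ?_
  rw [hG i p hp (hGp i)]
  exact hGu.mul_left_cancel hn'

end

end Groth.Agent.RamSam24
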