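import Groth.Agent.RamSam24.Glue
import Groth.Agent.S11938
import Mathlib

/-!
# An ideal of `A⟦T⟧` principal off the closed point is principal
-/

set_option autoImplicit false
set_option linter.style.haveILetI false
universe u

open IsLocalRing Polynomial

namespace Groth.Agent.RamSam24

/-- In a local ring a principal ideal spanned by a set containing zero is spanned by one of its members. -/
theorem exists_mem_span_eq {R : Type u} [CommRing R] [IsLocalRing R] {S : Set R} (h0 : (0 : R) ∈ S) {a : R}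
    (h : Ideal.span S = Ideal.span {a}) : ∃ g ∈ S, Ideal.span S = Ideal.span {g} := by
  by_cases ha : ∃ g ∈ S, a ∣ g ∧ g ∣ a
  · obtain ⟨g, hg, h1, h2⟩ := ha
    refine ⟨g, hg, h.trans (le_antisymm ?_ ?_)⟩ <;> rw [Ideal.span_singleton_le_span_singleton] <;> assumption
  · refine ⟨0, h0, ?_⟩
    have hle : Ideal.span S ≤ maximalIdeal R * Ideal.span {a} := by
      refine Ideal.span_le.2 fun s hs => ?_
      obtain ⟨t, rfl⟩ := Ideal.mem_span_singleton'.1 (h ▸ Ideal.subset_span hs)
      refine Ideal.mul_mem_mul ((IsLocalRing.mem_maximalIdeal _).2 fun hu => ha ⟨_, hs, dvd_mul_left a t, ?_⟩)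
        (Ideal.mem_span_singleton_self a)
      exact (IsUnit.mul_left_dvd hu).2 dvd_rfl
    obtain ⟨t, ht, e⟩ := Ideal.mem_mul_span_singleton.1 (hle (h ▸ Ideal.mem_span_singleton_self a))
    have hu : IsUnit (1 - t) := (IsLocalRing.isUnit_or_isUnit_one_sub_self t).resolve_left
      ((IsLocalRing.mem_maximalIdeal _).1 ht)
    have ha0 : a = 0 := hu.mul_right_eq_zero.1 (by rw [sub_mul, one_mul, e, sub_self])
    rw [h, ha0]

variable {A : Type u} [CommRing A] [IsNoetherianRing A] [IsLocalRing A] [IsAdicComplete (maximalIdeal A) A]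

/-- The inclusion of polynomials in power series. -/
noncomputable abbrev toPS : A[X] →+* PowerSeries A := Polynomial.coeToPowerSeries.ringHom

theorem surjective_mod {D : A[X]} (hD : D.IsDistinguishedAt (maximalIdeal A)) (r : PowerSeries A) :
    ∃ h : A[X], r - (h : PowerSeries A) ∈ Ideal.span {(D : PowerSeries A)} := by
  obtain ⟨h, hh⟩ := hD.algEquivQuotient.surjective (Ideal.Quotient.mk _ r)
  obtain ⟨h, rfl⟩ := Ideal.Quotient.mk_surjective h
  exact ⟨h, Ideal.Quotient.eq.1 hh.symm⟩

theorem injective_mod {D : A[X]} (hD : D.IsDistinguishedAt (maximalIdeal A)) {h : A[X]}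
    (hh : (h : PowerSeries A) ∈ Ideal.span {(D : PowerSeries A)}) : D ∣ h := by
  rw [← Ideal.mem_span_singleton, ← Ideal.Quotient.eq_zero_iff_mem]
  refine hD.algEquivQuotient.injective ?_
  rw [map_zero]
  exact (Ideal.Quotient.eq_zero_iff_mem.2 hh)

variable (J : Ideal (PowerSeries A))

/-- A monic generator of the polynomials of the ideal over a local ring of the base. -/
def Gen (p : PrimeSpectrum A) (χ : (Localization.AtPrime p.asIdeal)[X]) : Prop :=
  χ.Monic ∧ (J.comap toPS).map (mapRingHom (algebraMap A (Localization.AtPrime p.asIdeal))) = Ideal.span {χ}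

theorem exists_distinguished (hJm : ¬ J ≤ (maximalIdeal A).map (PowerSeries.C : A →+* PowerSeries A)) :
    ∃ D : A[X], D.IsDistinguishedAt (maximalIdeal A) ∧ (D : PowerSeries A) ∈ J := by
  obtain ⟨f, hfJ, hf⟩ : ∃ f ∈ J, f.map (residue A) ≠ 0 := by
    by_contra hcon
    push Not at hcon
    refine hJm fun g hg => ?_
    obtain ⟨s, hs⟩ := (IsNoetherian.noetherian (maximalIdeal A) : (maximalIdeal A).FG)
    have hc : ∀ n, PowerSeries.coeff n g ∈ Ideal.span (Set.range fun a : s => (a : A)) := fun n => by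
      have h0 := congrArg (PowerSeries.coeff n) (hcon g hg)
      rw [PowerSeries.coeff_map, map_zero, residue_eq_zero_iff, ← hs] at h0
      rwa [show Set.range (fun a : s => (a : A)) = (s : Set A) from Subtype.range_coe]
    choose c hc' using fun n => Ideal.mem_span_range_iff_exists_fun.1 (hc n)
    rw [show g = ∑ a : s, PowerSeries.mk (fun n => c n a) * PowerSeries.C (a : A) by
      ext n
      rw [map_sum, ← hc' n]
      exact Finset.sum_congr rfl fun a _ => by rw [PowerSeries.coeff_mul_C, PowerSeries.coeff_mk]]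
    exact Ideal.sum_mem _ fun a _ => Ideal.mul_mem_left _ _ (Ideal.mem_map_of_mem _ (hs.le (Submodule.subset_span a.2)))
  obtain ⟨D, h, hfac⟩ := PowerSeries.exists_isWeierstrassFactorization hf
  refine ⟨D, hfac.isDistinguishedAt, ?_⟩
  rw [hfac.eq_mul] at hfJ
  exact (Ideal.mul_unit_mem_iff_mem _ hfac.isUnit).1 hfJ

variable (hJm : ¬ J ≤ (maximalIdeal A).map (PowerSeries.C : A →+* PowerSeries A))
  (hloc : ∀ P : PrimeSpectrum (PowerSeries A), P ≠ closedPoint (PowerSeries A) →
    (J.map (algebraMap (PowerSeries A) (Localization.AtPrime P.asIdeal))).IsPrincipal)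

include hJm hloc in
/-- At each prime `M₀` of `A[T]` over a prime other than the maximal one, one member generates. -/
theorem exists_local_generator (M₀ : Ideal A[X]) [M₀.IsPrime] (hJM : J.comap toPS ≤ M₀)
    (hp : M₀.comap C ≠ maximalIdeal A) :
    ∃ g ∈ J.comap toPS, ∀ h ∈ J.comap toPS, ∃ s r : A[X], s ∉ M₀ ∧ s * h = g * r := by
  obtain ⟨D, hD, hDJ⟩ := exists_distinguished J hJm
  have hgen := (S11938.result A J hJm).2
  have hDM : D ∈ M₀ := hJM hDJ
  have hker : Ideal.span {D} ≤ RingHom.ker (Ideal.Quotient.mk M₀) := by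
    rw [Ideal.mk_ker, Ideal.span_singleton_le_iff_mem]; exact hDM
  let σ : PowerSeries A →+* A[X] ⧸ M₀ :=
    ((Ideal.Quotient.factor (hker.trans (Ideal.mk_ker).le)).comp hD.algEquivQuotient.symm.toRingEquiv.toRingHom).comp
      (Ideal.Quotient.mk _)
  have hσ : ∀ h : A[X], σ h = Ideal.Quotient.mk M₀ h := fun h => by
    have e : hD.algEquivQuotient.symm (Ideal.Quotient.mk _ (h : PowerSeries A)) = Ideal.Quotient.mk _ h := by
      rw [AlgEquiv.symm_apply_eq]; rfl
    show Ideal.Quotient.factor (hker.trans (Ideal.mk_ker).le) (hD.algEquivQuotient.symm (Ideal.Quotient.mk _ (h : PowerSeries A))) = _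
    rw [e]; rfl
  haveI : (RingHom.ker σ).IsPrime := RingHom.ker_isPrime σ
  have hmem : ∀ h : A[X], (h : PowerSeries A) ∈ RingHom.ker σ ↔ h ∈ M₀ := fun h => by
    rw [RingHom.mem_ker, hσ, Ideal.Quotient.eq_zero_iff_mem]
  have hP : (⟨RingHom.ker σ, inferInstance⟩ : PrimeSpectrum (PowerSeries A)) ≠ closedPoint _ := fun e => hp <| by
    refine le_antisymm (le_maximalIdeal (Ideal.comap_ne_top _ (Ideal.IsPrime.ne_top inferInstance))) fun a ha => ?_
    have he : RingHom.ker σ = maximalIdeal (PowerSeries A) := congrArg PrimeSpectrum.asIdeal e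
    rw [Ideal.mem_comap, ← hmem, Polynomial.coe_C, he, IsLocalRing.mem_maximalIdeal, mem_nonunits_iff,
      PowerSeries.isUnit_iff_constantCoeff, PowerSeries.constantCoeff_C]
    exact (IsLocalRing.mem_maximalIdeal _).1 ha
  obtain ⟨a, ha⟩ := (hloc ⟨RingHom.ker σ, inferInstance⟩ hP).principal
  let φ := algebraMap (PowerSeries A) (Localization.AtPrime (RingHom.ker σ))
  have hspan : J.map φ = Ideal.span (φ '' (toPS '' (J.comap toPS : Set A[X]))) := by
    conv_lhs => rw [← hgen]
    rw [Ideal.map_map, Ideal.map, Set.image_image]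
    rfl
  obtain ⟨_, ⟨_, ⟨g, hg, rfl⟩, rfl⟩, hgS⟩ :=
    exists_mem_span_eq (S := φ '' (toPS '' (J.comap toPS : Set A[X])))
      ⟨0, ⟨0, Submodule.zero_mem _, map_zero _⟩, map_zero _⟩ (hspan.symm.trans ha)
  have key : ∀ D' : A[X], D'.IsDistinguishedAt (maximalIdeal A) → D' ∈ M₀ → ∀ h ∈ J.comap toPS,
      ∃ s r u : A[X], s ∉ M₀ ∧ s * h = g * r + D' * u := by
    intro D' hD' hD'M h hh
    have hmemspan : φ (h : PowerSeries A) ∈ (Ideal.span {(g : PowerSeries A)}).map φ := by
      rw [Ideal.map_span, Set.image_singleton]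
      exact hgS ▸ hspan ▸ Ideal.mem_map_of_mem φ (show (h : PowerSeries A) ∈ J from hh)
    obtain ⟨⟨⟨r, hr⟩, s⟩, e⟩ := (IsLocalization.mem_map_algebraMap_iff (RingHom.ker σ).primeCompl _).1 hmemspan
    obtain ⟨r', rfl⟩ := Ideal.mem_span_singleton'.1 hr
    rw [← map_mul] at e
    obtain ⟨c, hc⟩ := (IsLocalization.eq_iff_exists (RingHom.ker σ).primeCompl _).1 e
    obtain ⟨s₀, hs₀⟩ := surjective_mod hD' ((c : PowerSeries A) * s)
    obtain ⟨r₀, hr₀⟩ := surjective_mod hD' ((c : PowerSeries A) * r')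
    obtain ⟨u, hu⟩ := injective_mod hD' (h := s₀ * h - g * r₀) (by
      have : ((s₀ * h - g * r₀ : A[X]) : PowerSeries A) =
          ((g : PowerSeries A) * ((c : PowerSeries A) * r' - r₀)) - ((h : PowerSeries A) * ((c : PowerSeries A) * s - s₀)) := by
        rw [Polynomial.coe_sub, Polynomial.coe_mul, Polynomial.coe_mul]
        linear_combination hc
      rw [this]
      exact sub_mem (Ideal.mul_mem_left _ _ hr₀) (Ideal.mul_mem_left _ _ hs₀))
    refine ⟨s₀, r₀, u, fun hs₀M => ?_, by linear_combination hu⟩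
    have h1 : (c : PowerSeries A) * s - s₀ ∈ RingHom.ker σ :=
      (Ideal.span_singleton_le_iff_mem _).2 ((hmem D').2 hD'M) hs₀
    have h2 := add_mem h1 ((hmem s₀).2 hs₀M)
    rw [sub_add_cancel] at h2
    exact ((inferInstance : (RingHom.ker σ).IsPrime).mem_or_mem h2).elim c.2 s.2
  obtain ⟨s₁, r₁, u₁, hs₁, e₁⟩ := key (D * D) (hD.mul hD) (M₀.mul_mem_left D hDM) D hDJ
  refine ⟨g, hg, fun h hh => ?_⟩
  obtain ⟨s, r, u, hs, e⟩ := key D hD hDM h hh
  have hs₁' : s₁ - D * u₁ ∉ M₀ := fun hm => hs₁ (by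
    have := add_mem hm (M₀.mul_mem_right u₁ hDM)
    rwa [sub_add_cancel] at this)
  refine ⟨(s₁ - D * u₁) * s, r * (s₁ - D * u₁) + u * r₁, fun hm => ?_, ?_⟩
  · exact ((inferInstance : M₀.IsPrime).mem_or_mem hm).elim hs₁' hs
  · linear_combination (s₁ - D * u₁) * e + u * e₁

include hJm hloc in
theorem exists_gen (p : PrimeSpectrum A) (hp : p ≠ closedPoint A) : ∃ χ, Gen J p χ := by
  classical
  obtain ⟨D, hD, hDJ⟩ := exists_distinguished J hJm
  let Ap := Localization.AtPrime p.asIdeal
  let k := ResidueField Ap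
  let ι : A[X] →+* Ap[X] := mapRingHom (algebraMap A Ap)
  let πk : Ap[X] →+* k[X] := mapRingHom (residue Ap)
  have hπk : Function.Surjective πk := Polynomial.map_surjective _ residue_surjective
  let J' : Ideal Ap[X] := (J.comap toPS).map ι
  let Jb : Ideal k[X] := J'.map πk
  have hDb : (ι D).Monic := hD.monic.map _
  have hDJb : πk (ι D) ∈ Jb := Ideal.mem_map_of_mem _ (Ideal.mem_map_of_mem ι hDJ)
  obtain ⟨G, hG⟩ := (IsPrincipalIdealRing.principal Jb).principal
  have hG0 : G ≠ 0 := fun h0 => by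
    rw [hG, h0] at hDJb
    have : πk (ι D) = 0 := by simpa using hDJb
    exact (hDb.map (residue Ap)).ne_zero this
  let gb : k[X] := G * C G.leadingCoeff⁻¹
  have hgb : gb.Monic := monic_mul_leadingCoeff_inv hG0
  have hJb : Jb = Ideal.span {gb} := by
    rw [hG]
    refine (Ideal.span_singleton_mul_right_unit ?_ G).symm
    exact Polynomial.isUnit_C.2 (isUnit_iff_ne_zero.2 (inv_ne_zero (leadingCoeff_ne_zero.2 hG0)))
  let d := gb.natDegree
  let Q := Ap[X] ⧸ J'
  haveI : Module.Finite Ap (Ap[X] ⧸ Ideal.span {ι D}) := hDb.finite_quotient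
  have hle : Ideal.span {ι D} ≤ J' := (Ideal.span_singleton_le_iff_mem _).2 (Ideal.mem_map_of_mem ι hDJ)
  haveI : Module.Finite Ap Q := Module.Finite.of_surjective
    (Ideal.Quotient.factorₐ Ap hle).toLinearMap (Ideal.Quotient.factor_surjective hle)
  let mkL : Ap[X] →ₗ[Ap] Q := (Ideal.Quotient.mkₐ Ap J').toLinearMap
  let N : Submodule Ap Q := (Polynomial.degreeLT Ap d).map mkL
  have hN : N = ⊤ := by
    refine top_le_iff.1 (Submodule.le_of_le_smul_of_le_jacobson_bot Module.Finite.fg_top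
      (IsLocalRing.maximalIdeal_le_jacobson _) fun x _ => ?_)
    obtain ⟨h, rfl⟩ := Ideal.Quotient.mk_surjective x
    obtain ⟨j, hj, hjq⟩ := (Ideal.mem_map_iff_of_surjective πk hπk).1
      (show πk h - πk h %ₘ gb ∈ Jb by
        rw [hJb, Ideal.mem_span_singleton']
        exact ⟨πk h /ₘ gb, by rw [Polynomial.modByMonic_eq_sub_mul_div]; ring⟩)
    obtain ⟨r, hr, hrd⟩ := Polynomial.mem_lifts_and_degree_eq (f := residue Ap) (p := πk h %ₘ gb)
      ((Polynomial.mem_lifts _).2 (Polynomial.map_surjective _ residue_surjective _))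
    refine Submodule.mem_sup.2 ⟨mkL r, Submodule.mem_map_of_mem ?_, mkL (h - r - j), ?_, ?_⟩
    · rw [Polynomial.mem_degreeLT]
      exact hrd.trans_lt ((Polynomial.degree_modByMonic_lt _ hgb).trans_eq (degree_eq_natDegree hgb.ne_zero))
    · have hm : h - r - j ∈ (maximalIdeal Ap).map (C : Ap →+* Ap[X]) := by
        rw [Ideal.mem_map_C_iff]
        intro n
        rw [← residue_eq_zero_iff, ← Polynomial.coeff_map]
        show (πk (h - r - j)).coeff n = 0
        rw [map_sub, map_sub, hjq, show πk r = πk h %ₘ gb from hr]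
        simp
      refine (Ideal.smul_top_eq_map (S := Q) (maximalIdeal Ap)).ge ?_
      show Ideal.Quotient.mk J' (h - r - j) ∈ (maximalIdeal Ap).map (algebraMap Ap Q)
      have hm' := Ideal.mem_map_of_mem (Ideal.Quotient.mk J') hm
      rwa [Ideal.map_map] at hm'
    · rw [← map_add, sub_sub, ← add_sub_assoc, add_sub_add_left_eq_sub]
      show Ideal.Quotient.mk J' (h - j) = Ideal.Quotient.mk J' h
      rw [Ideal.Quotient.eq, sub_sub_cancel_left]
      exact neg_mem hj
  obtain ⟨r, hr, hrX⟩ := Submodule.mem_map.1 (show mkL (X ^ d) ∈ N by rw [hN]; trivial)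
  let χ : Ap[X] := X ^ d - r
  have hrdeg : r.degree < (d : WithBot ℕ) := Polynomial.mem_degreeLT.1 hr
  have hχm : χ.Monic := monic_X_pow_sub (by simpa using hrdeg)
  have hχJ : χ ∈ J' := Ideal.Quotient.eq.1 hrX.symm
  have hχb : πk χ = gb := by
    have hdvd : gb ∣ πk χ := Ideal.mem_span_singleton.1 (hJb.le (Ideal.mem_map_of_mem πk hχJ))
    refine Polynomial.eq_of_monic_of_dvd_of_natDegree_le hgb (hχm.map _) hdvd ?_
    show (χ.map (residue Ap)).natDegree ≤ d
    rw [hχm.natDegree_map, natDegree_le_iff_degree_le]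
    refine (degree_sub_le _ _).trans (max_le (degree_X_pow_le d) hrdeg.le)
  refine ⟨χ, hχm, le_antisymm (Ideal.map_le_iff_le_comap.2 fun h hh => ?_)
    ((Ideal.span_singleton_le_iff_mem _).2 hχJ)⟩
  rw [Ideal.mem_comap]
  let Col : Ideal Ap[X] := (Ideal.span {χ}).colon {ι h}
  have hCol : ∀ x, x ∈ Col ↔ x * ι h ∈ Ideal.span {χ} := fun x => by simp [Col, Submodule.mem_colon_singleton]
  suffices (1 : Ap[X]) ∈ Col by
    have := (hCol 1).1 this
    rwa [one_mul] at this
  by_contra h1
  obtain ⟨M, hM, hColM⟩ := Ideal.exists_le_maximal Col (fun e => h1 (e ▸ trivial))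
  have hχM : χ ∈ M := hColM ((hCol χ).2 (Ideal.mul_mem_right _ _ (Ideal.mem_span_singleton_self χ)))
  haveI : Module.Finite Ap (Ap[X] ⧸ Ideal.span {χ}) := hχm.finite_quotient
  haveI : Algebra.IsIntegral Ap (Ap[X] ⧸ Ideal.span {χ}) := Algebra.IsIntegral.of_finite _ _
  have hkerle : RingHom.ker (Ideal.Quotient.mk (Ideal.span {χ})) ≤ M := by
    rw [Ideal.mk_ker, Ideal.span_singleton_le_iff_mem]; exact hχM
  haveI hMm : (M.map (Ideal.Quotient.mk (Ideal.span {χ}))).IsMaximal :=
    (Ideal.map_eq_top_or_isMaximal_of_surjective _ Ideal.Quotient.mk_surjective hM).resolve_left fun e => hM.ne_top (by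
      have := congrArg (Ideal.comap (Ideal.Quotient.mk (Ideal.span {χ}))) e
      rw [Ideal.comap_map_of_surjective _ Ideal.Quotient.mk_surjective, Ideal.comap_top] at this
      rwa [← RingHom.ker_eq_comap_bot, sup_eq_left.2 hkerle] at this)
  have hMC : maximalIdeal Ap ≤ M.comap C := by
    have h2 := Ideal.isMaximal_comap_of_isIntegral_of_isMaximal (R := Ap) (M.map (Ideal.Quotient.mk (Ideal.span {χ})))
    intro c hc
    rw [← IsLocalRing.eq_maximalIdeal h2, Ideal.mem_comap] at hc
    have h3 : C c ∈ (M.map (Ideal.Quotient.mk (Ideal.span {χ}))).comap (Ideal.Quotient.mk (Ideal.span {χ})) := hc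
    rw [Ideal.comap_map_of_surjective _ Ideal.Quotient.mk_surjective] at h3
    exact (sup_eq_left.2 hkerle).le h3
  have hkM : RingHom.ker πk ≤ M := by
    intro z hz
    have : z ∈ (maximalIdeal Ap).map (C : Ap →+* Ap[X]) := by
      rw [Ideal.mem_map_C_iff]
      intro n
      rw [← residue_eq_zero_iff, ← Polynomial.coeff_map, show z.map (residue Ap) = 0 from hz, coeff_zero]
    exact Ideal.map_le_iff_le_comap.2 hMC this
  have hJM : J' ≤ M := fun z hz => by
    obtain ⟨c, hc⟩ := Ideal.mem_span_singleton'.1 (hJb.le (Ideal.mem_map_of_mem πk hz))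
    obtain ⟨c, rfl⟩ := hπk c
    have : z - c * χ ∈ M := hkM (by rw [RingHom.mem_ker, map_sub, map_mul, hχb, hc, sub_self])
    simpa using add_mem this (M.mul_mem_left c hχM)
  let M₀ : Ideal A[X] := M.comap ι
  haveI : M₀.IsPrime := Ideal.comap_isPrime _ _
  have hM₀p : M₀.comap C = p.asIdeal := by
    ext a
    simp only [M₀, Ideal.mem_comap, ι, coe_mapRingHom, Polynomial.map_C]
    constructor
    · intro ha
      by_contra hap
      exact hM.ne_top (Ideal.eq_top_of_isUnit_mem _ ha
        (Polynomial.isUnit_C.2 (IsLocalization.map_units (M := p.asIdeal.primeCompl) Ap ⟨a, hap⟩)))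
    · exact fun ha => hMC ((IsLocalization.AtPrime.to_map_mem_maximal_iff Ap p.asIdeal a).2 ha)
  obtain ⟨g, hg, hgen⟩ := exists_local_generator J hJm hloc M₀ (fun z hz => hJM (Ideal.mem_map_of_mem ι hz))
    (by rw [hM₀p]; exact fun e => hp (PrimeSpectrum.ext e))
  letI : Algebra A[X] Ap[X] := ι.toAlgebra
  haveI : IsLocalization (p.asIdeal.primeCompl.map (C : A →+* A[X])) Ap[X] := by
    convert! Polynomial.isLocalization p.asIdeal.primeCompl Ap using 1
  obtain ⟨⟨⟨j, hj⟩, b⟩, hjb⟩ := (IsLocalization.mem_map_algebraMap_iff (p.asIdeal.primeCompl.map (C : A →+* A[X])) Ap[X]).1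
    (show χ ∈ (J.comap toPS).map (algebraMap A[X] Ap[X]) from hχJ)
  have hbu : IsUnit (ι (b : A[X])) := IsLocalization.map_units Ap[X] b
  obtain ⟨s, rs, hs, es⟩ := hgen j hj
  obtain ⟨s', rs', hs', es'⟩ := hgen h hh
  obtain ⟨e, he⟩ := Ideal.mem_span_singleton'.1 (hJb.le (Ideal.mem_map_of_mem πk (Ideal.mem_map_of_mem ι hg)))
  let c := ι rs * ((hbu.unit⁻¹ : Ap[X]ˣ) : Ap[X])
  have hc : ι s * χ = ι g * c := by
    refine hbu.mul_left_cancel ?_
    calc ι (b : A[X]) * (ι s * χ) = ι s * (χ * ι (b : A[X])) := by ring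
      _ = ι (s * j) := by rw [map_mul]; exact congrArg _ hjb
      _ = ι g * ι rs * (ι (b : A[X]) * ((hbu.unit⁻¹ : Ap[X]ˣ) : Ap[X])) := by
        rw [es, map_mul, IsUnit.mul_val_inv, mul_one]
      _ = ι (b : A[X]) * (ι g * c) := by simp only [c]; ring
  have hcM : c ∉ M := fun hcM => hs (by
    have h5 : πk (ι s) = πk c * e := by
      have h6 := congrArg πk hc
      rw [map_mul, map_mul, hχb, ← he] at h6
      exact mul_left_injective₀ hgb.ne_zero (by linear_combination h6)
    obtain ⟨e', rfl⟩ := hπk e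
    have : ι s - c * e' ∈ M := hkM (by rw [RingHom.mem_ker, map_sub, map_mul, h5, sub_self])
    simpa [M₀] using add_mem this (M.mul_mem_right e' hcM))
  have hmem : c * ι s' ∈ Col := (hCol _).2 (Ideal.mem_span_singleton'.2 ⟨ι s * ι rs', by
    have e2 : ι s' * ι h = ι g * ι rs' := by rw [← map_mul, ← map_mul, es']
    linear_combination (-c) * e2 + ι rs' * hc⟩)
  exact (hM.isPrime.mem_or_mem (hColM hmem)).elim hcM hs'

theorem natDegree_le_of_monic_dvd {R : Type u} [CommRing R] {p q : R[X]} (hp : p.Monic) (hq : q.Monic) (h : p ∣ q) :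
    p.natDegree ≤ q.natDegree := by
  obtain ⟨c, rfl⟩ := h
  rw [hp.natDegree_mul (hp.of_mul_monic_left hq)]
  exact Nat.le_add_right _ _

omit [IsAdicComplete (maximalIdeal A) A] in
theorem gen_unique {p : PrimeSpectrum A} {χ χ' : (Localization.AtPrime p.asIdeal)[X]} (h : Gen J p χ) (h' : Gen J p χ') :
    χ = χ' :=
  Polynomial.eq_of_monic_of_dvd_of_natDegree_le h.1 h'.1 (Ideal.span_singleton_le_span_singleton.1 (h'.2.symm.trans h.2).le)
    (natDegree_le_of_monic_dvd h'.1 h.1 (Ideal.span_singleton_le_span_singleton.1 (h.2.symm.trans h'.2).le)) |>.symm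

omit [IsAdicComplete (maximalIdeal A) A] in
theorem spread_gen {p : PrimeSpectrum A} {χ : (Localization.AtPrime p.asIdeal)[X]} (hχ : Gen J p χ) :
    ∃ (g b : A) (χ₀ : A[X]), g ∉ p.asIdeal ∧ b ∉ p.asIdeal ∧
      ∀ q : PrimeSpectrum A, g ∉ q.asIdeal → ∃ χq, Gen J q χq ∧
        C (algebraMap A (Localization.AtPrime q.asIdeal) b) * χq = χ₀.map (algebraMap A _) := by
  classical
  let M : Submonoid A := p.asIdeal.primeCompl
  let Ap := Localization.AtPrime p.asIdeal
  let ι : A[X] →+* Ap[X] := mapRingHom (algebraMap A Ap)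
  letI : Algebra A[X] Ap[X] := ι.toAlgebra
  haveI : IsLocalization (M.map (C : A →+* A[X])) Ap[X] := by
    convert! Polynomial.isLocalization M Ap using 1
  let d := χ.natDegree
  obtain ⟨b, hb⟩ := IsLocalization.exist_integer_multiples M (Finset.range d) χ.coeff
  choose! a ha using hb
  let χ₀ : A[X] := C (b : A) * X ^ d + ∑ i ∈ Finset.range d, C (a i) * X ^ i
  have hmap : χ₀.map (algebraMap A Ap) = C (algebraMap A Ap b) * χ := by
    conv_rhs => rw [hχ.1.as_sum]
    simp only [χ₀, Polynomial.map_add, Polynomial.map_sum, Polynomial.map_mul, Polynomial.map_C, Polynomial.map_pow,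
      Polynomial.map_X, mul_add, Finset.mul_sum]
    refine congrArg₂ (· + ·) rfl (Finset.sum_congr rfl fun i hi => ?_)
    rw [ha i hi, Algebra.smul_def, map_mul, mul_assoc]
  have hJ0 : (J.comap toPS).FG := IsNoetherian.noetherian _
  obtain ⟨S, hS⟩ := hJ0
  have hbu : IsUnit (algebraMap A Ap (b : A)) := IsLocalization.map_units Ap b
  have hχ₀ : ι χ₀ ∈ (J.comap toPS).map (algebraMap A[X] Ap[X]) := by
    show χ₀.map (algebraMap A Ap) ∈ (J.comap toPS).map ι
    rw [hmap, hχ.2]
    exact Ideal.mul_mem_left _ _ (Ideal.mem_span_singleton_self _)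
  obtain ⟨_, ⟨t₀, ht₀, rfl⟩, hm₀⟩ : ∃ m ∈ M.map (C : A →+* A[X]), m * χ₀ ∈ J.comap toPS :=
    (IsLocalization.algebraMap_mem_map_algebraMap_iff (M.map (C : A →+* A[X])) Ap[X] _ _).1 hχ₀
  have hS' : ∀ h ∈ S, ∃ t ∈ M, C t * h ∈ Ideal.span {χ₀} := by
    intro h hh
    have hh' : ι h ∈ (Ideal.span {χ₀}).map (algebraMap A[X] Ap[X]) := by
      have h1 : ι h ∈ (J.comap toPS).map ι := Ideal.mem_map_of_mem ι (hS ▸ Submodule.subset_span hh)
      rw [hχ.2, Ideal.mem_span_singleton] at h1
      show ι h ∈ (Ideal.span {χ₀}).map ι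
      rw [Ideal.map_span, Set.image_singleton, Ideal.mem_span_singleton]
      show χ₀.map (algebraMap A Ap) ∣ ι h
      rw [hmap]
      exact ((associated_unit_mul_left χ _ (Polynomial.isUnit_C.2 hbu)).dvd).trans h1
    obtain ⟨_, ⟨t, ht, rfl⟩, hm⟩ :=
      (IsLocalization.algebraMap_mem_map_algebraMap_iff (M.map (C : A →+* A[X])) Ap[X] _ _).1 hh'
    exact ⟨t, ht, hm⟩
  choose! t ht htmem using hS'
  refine ⟨(b : A) * t₀ * ∏ h ∈ S, t h, b, χ₀, fun hm => ?_, b.2, fun q hq => ?_⟩
  · exact (M.mul_mem (M.mul_mem b.2 ht₀) (M.prod_mem fun h hh => ht h hh)) hm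
  · let Aq := Localization.AtPrime q.asIdeal
    have hu : ∀ x : A, x ∣ (b : A) * t₀ * ∏ h ∈ S, t h → IsUnit (algebraMap A Aq x) := fun x hx =>
      IsLocalization.map_units (M := q.asIdeal.primeCompl) Aq ⟨x, fun hxq => hq (Ideal.mem_of_dvd _ hx hxq)⟩
    have hub := hu b ((dvd_mul_right _ t₀).mul_right _)
    have hχq : (C ((hub.unit⁻¹ : Aqˣ) : Aq) * χ₀.map (algebraMap A Aq)).Monic := by
      have hdeg : (∑ i ∈ Finset.range d, C (a i) * X ^ i).degree < (d : WithBot ℕ) := by
        refine (degree_sum_le _ _).trans_lt ((Finset.sup_lt_iff (WithBot.bot_lt_coe d)).2 fun i hi => ?_)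
        exact (degree_C_mul_X_pow_le i _).trans_lt (WithBot.coe_lt_coe.2 (Finset.mem_range.1 hi))
      have e : C ((hub.unit⁻¹ : Aqˣ) : Aq) * χ₀.map (algebraMap A Aq) = X ^ d +
          C ((hub.unit⁻¹ : Aqˣ) : Aq) * (∑ i ∈ Finset.range d, C (a i) * X ^ i).map (algebraMap A Aq) := by
        simp only [χ₀, Polynomial.map_add, Polynomial.map_mul, Polynomial.map_C, Polynomial.map_pow,
          Polynomial.map_X, mul_add, ← mul_assoc, ← map_mul, IsUnit.val_inv_mul, map_one, one_mul]
      rw [e]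
      exact monic_X_pow_add ((degree_mul_le _ _).trans_lt ((add_le_add degree_C_le le_rfl).trans_lt
        (by rw [zero_add]; exact degree_map_le.trans_lt hdeg)))
    refine ⟨_, ⟨hχq, ?_⟩, by rw [← mul_assoc, ← map_mul, IsUnit.mul_val_inv, map_one, one_mul]⟩
    rw [Ideal.span_singleton_mul_left_unit (Polynomial.isUnit_C.2 (Units.isUnit _))]
    refine le_antisymm (Ideal.map_le_iff_le_comap.2 (hS.ge.trans (Submodule.span_le.2 fun h hh => ?_))) ?_
    · have h2 := Ideal.mem_map_of_mem (mapRingHom (algebraMap A Aq)) (htmem h hh)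
      rw [Ideal.map_span, Set.image_singleton, map_mul, coe_mapRingHom, Polynomial.map_C] at h2
      exact (Ideal.unit_mul_mem_iff_mem _ (Polynomial.isUnit_C.2
        (hu _ (Dvd.dvd.mul_left (Finset.dvd_prod_of_mem t hh) _)))).1 h2
    · rw [Ideal.span_singleton_le_iff_mem]
      have h2 := Ideal.mem_map_of_mem (mapRingHom (algebraMap A Aq)) hm₀
      rw [map_mul, coe_mapRingHom, Polynomial.map_C] at h2
      exact (Ideal.unit_mul_mem_iff_mem _ (Polynomial.isUnit_C.2 (hu _ ((dvd_mul_left _ _).mul_right _)))).1 h2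

include hJm hloc in
/-- The ideal is generated by one series at every prime other than the maximal one. -/
theorem exists_generator (hd : (2 : ℕ∞) ≤ LocCoh.depth A A) :
    ∃ χ : PowerSeries A, ∀ P : PrimeSpectrum (PowerSeries A), P ≠ closedPoint (PowerSeries A) →
      J.map (algebraMap (PowerSeries A) (Localization.AtPrime P.asIdeal)) =
        Ideal.span {algebraMap (PowerSeries A) (Localization.AtPrime P.asIdeal) χ} := by
  classical
  choose χp hχp using exists_gen J hJm hloc
  obtain ⟨D, hD, hDJ⟩ := exists_distinguished J hJm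
  have hdeg : ∀ p hp, (χp p hp).natDegree ≤ D.natDegree := by
    intro p hp
    have hm : D.map (algebraMap A (Localization.AtPrime p.asIdeal)) ∈ Ideal.span {χp p hp} :=
      (hχp p hp).2 ▸ Ideal.mem_map_of_mem _ hDJ
    rw [← hD.monic.natDegree_map (algebraMap A (Localization.AtPrime p.asIdeal))]
    exact natDegree_le_of_monic_dvd (hχp p hp).1 (hD.monic.map _) (Ideal.mem_span_singleton.1 hm)
  have hco : ∀ i : ℕ, ∃ x : A, ∀ p hp, algebraMap A (Localization.AtPrime p.asIdeal) x = (χp p hp).coeff i := by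
    intro i
    refine glue_punctured A hd (fun p hp => (χp p hp).coeff i) fun p hp => ?_
    obtain ⟨g, b, χ₀, hg, hb, h⟩ := spread_gen J (hχp p hp)
    refine ⟨g, b, χ₀.coeff i, hg, hb, fun q hq hgq => ?_⟩
    obtain ⟨χq, hχq, e⟩ := h q hgq
    rw [gen_unique J (hχp q hq) hχq]
    have := congrArg (fun P => Polynomial.coeff P i) e
    simpa [coeff_C_mul, coeff_map] using this
  choose x hx using hco
  let χ : A[X] := ∑ i ∈ Finset.range (D.natDegree + 1), C (x i) * X ^ i
  have hmap : ∀ p hp, χ.map (algebraMap A (Localization.AtPrime p.asIdeal)) = χp p hp := by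
    intro p hp
    conv_rhs => rw [(χp p hp).as_sum_range' (D.natDegree + 1) (Nat.lt_succ_of_le (hdeg p hp))]
    simp only [χ, Polynomial.map_sum, Polynomial.map_mul, Polynomial.map_C, Polynomial.map_pow, Polynomial.map_X,
      ← C_mul_X_pow_eq_monomial]
    exact Finset.sum_congr rfl fun i _ => by rw [hx i p hp]
  refine ⟨χ, fun P hP => ?_⟩
  let φ := algebraMap (PowerSeries A) (Localization.AtPrime P.asIdeal)
  let p : PrimeSpectrum A := ⟨P.asIdeal.comap (PowerSeries.C : A →+* PowerSeries A), inferInstance⟩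
  by_cases hp : p = closedPoint A
  · -- `P` is the extension of the maximal ideal
    have hP' : ∀ f ∈ P.asIdeal, f.map (residue A) = 0 := by
      intro f hf
      by_contra hne
      obtain ⟨D', h', hfac⟩ := PowerSeries.exists_isWeierstrassFactorization hne
      have hD' : (D' : PowerSeries A) ∈ P.asIdeal := by
        rw [hfac.eq_mul] at hf
        exact (Ideal.mul_unit_mem_iff_mem _ hfac.isUnit).1 hf
      have hCP : ∀ c ∈ maximalIdeal A, PowerSeries.C c ∈ P.asIdeal := fun c hc =>
        (congrArg PrimeSpectrum.asIdeal hp).ge hc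
      have hXn : (PowerSeries.X : PowerSeries A) ^ D'.natDegree ∈ P.asIdeal := by
        have hsum := congrArg (fun q : A[X] => (q : PowerSeries A)) hfac.isDistinguishedAt.monic.as_sum
        simp only [Polynomial.coe_add, Polynomial.coe_pow, Polynomial.coe_X] at hsum
        rw [hsum] at hD'
        refine (add_mem_cancel_right ?_).1 hD'
        rw [← Polynomial.coeToPowerSeries.ringHom_apply, map_sum]
        refine Ideal.sum_mem _ fun i hi => ?_
        rw [map_mul, Polynomial.coeToPowerSeries.ringHom_apply, Polynomial.coe_C]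
        exact Ideal.mul_mem_right _ _ (hCP _ (hfac.isDistinguishedAt.mem (Finset.mem_range.1 hi)))
      refine hP (PrimeSpectrum.ext (le_antisymm (le_maximalIdeal P.isPrime.ne_top) fun g hg => ?_))
      rw [PowerSeries.eq_X_mul_shift_add_const g]
      refine add_mem (Ideal.mul_mem_right _ _ (P.isPrime.mem_of_pow_mem _ hXn)) (hCP _ ?_)
      exact (IsLocalRing.mem_maximalIdeal _).2 fun hu => (IsLocalRing.mem_maximalIdeal _).1 hg
        (PowerSeries.isUnit_iff_constantCoeff.2 hu)
    have h1 : J.map φ = ⊤ := by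
      obtain ⟨f, hfJ, hfP⟩ : ∃ f ∈ J, f ∉ P.asIdeal := by
        refine SetLike.not_le_iff_exists.1 fun hle => hJm fun f hf => ?_
        have hDP := hP' _ (hle hDJ)
        rw [← Polynomial.polynomial_map_coe] at hDP
        exact absurd (Polynomial.coe_eq_zero_iff.1 hDP) (hD.monic.map _).ne_zero
      exact Ideal.eq_top_of_isUnit_mem _ (Ideal.mem_map_of_mem φ hfJ)
        (IsLocalization.map_units (M := P.asIdeal.primeCompl) _ ⟨f, hfP⟩)
    refine h1.trans (Ideal.span_singleton_eq_top.2 ?_).symm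
    refine IsLocalization.map_units (M := P.asIdeal.primeCompl) (Localization.AtPrime P.asIdeal) ⟨(χ : PowerSeries A), fun hχP => ?_⟩
    have hχ0 := hP' _ hχP
    rw [← Polynomial.polynomial_map_coe, Polynomial.coe_eq_zero_iff] at hχ0
    obtain ⟨q, hq⟩ : ∃ q : PrimeSpectrum A, q ≠ closedPoint A := by
      by_contra hcon
      push Not at hcon
      obtain ⟨I, hI⟩ := associatedPrimes.nonempty A A
      refine (Alg6.one_le_depth_iff (R := A) (M := A)).1 (le_trans (by decide) hd) ?_
      rwa [← show I = maximalIdeal A from congrArg PrimeSpectrum.asIdeal (hcon ⟨I, hI.isPrime⟩)]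
    have hmon : (χ.map (algebraMap A (Localization.AtPrime q.asIdeal))).Monic := hmap q hq ▸ (hχp q hq).1
    have hu : IsUnit (χ.coeff (χ.map (algebraMap A (Localization.AtPrime q.asIdeal))).natDegree) := by
      set n := (χ.map (algebraMap A (Localization.AtPrime q.asIdeal))).natDegree
      by_contra hn
      have h2 : algebraMap A (Localization.AtPrime q.asIdeal) (χ.coeff n) = 1 := by
        rw [← coeff_map]; exact hmon.coeff_natDegree
      rw [← map_one (algebraMap A (Localization.AtPrime q.asIdeal))] at h2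
      obtain ⟨⟨s, hs⟩, e⟩ := (IsLocalization.eq_iff_exists q.asIdeal.primeCompl _).1 h2
      have hu1 : IsUnit (1 - χ.coeff n) := (IsLocalRing.isUnit_or_isUnit_one_sub_self _).resolve_left hn
      exact hs (by rw [hu1.mul_left_eq_zero.1 (show s * (1 - χ.coeff n) = 0 by linear_combination -e)]; exact q.asIdeal.zero_mem)
    exact (hu.map (residue A)).ne_zero (by rw [← coeff_map, hχ0, coeff_zero])
  · let Ap := Localization.AtPrime p.asIdeal
    let ψ₀ : Ap →+* Localization.AtPrime P.asIdeal := IsLocalization.lift (M := p.asIdeal.primeCompl)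
      (g := φ.comp PowerSeries.C) fun c => IsLocalization.map_units (M := P.asIdeal.primeCompl) _ ⟨PowerSeries.C (c : A), c.2⟩
    let ψ : Ap[X] →+* Localization.AtPrime P.asIdeal := eval₂RingHom ψ₀ (φ PowerSeries.X)
    have hψ : ψ.comp (mapRingHom (algebraMap A Ap)) = φ.comp toPS := Polynomial.ringHom_ext
      (fun a => by simp [ψ, ψ₀, IsLocalization.lift_eq]) (by simp [ψ])
    have hgen := (S11938.result A J hJm).2
    calc J.map φ = ((J.comap toPS).map toPS).map φ := by rw [hgen]
      _ = ((J.comap toPS).map (mapRingHom (algebraMap A Ap))).map ψ := by rw [Ideal.map_map, Ideal.map_map, hψ]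
      _ = Ideal.span {ψ (χp p hp)} := by rw [(hχp p hp).2, Ideal.map_span, Set.image_singleton]
      _ = Ideal.span {φ (χ : PowerSeries A)} := by
        rw [← hmap p hp]
        exact congrArg (fun r => Ideal.span {r}) (congr($hψ χ))

end Groth.Agent.RamSam24
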