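import Mathlib

/-!
# A change of variables making a power series regular in the first variable
-/

set_option autoImplicit false
universe u

open Finset MvPowerSeries

namespace Groth.Agent.RamSam24

/-- A weight vector with first entry one having a unique minimiser on a given set. -/
theorem exists_weight : ∀ (n : ℕ) (S : Set (Fin (n + 1) → ℕ)), S.Nonempty →
    ∃ w : Fin (n + 1) → ℕ, w 0 = 1 ∧ (∀ i, 0 < w i) ∧
      ∃ d₀ ∈ S, ∀ d ∈ S, ∑ i, w i * d i ≤ ∑ i, w i * d₀ i → d = d₀ := by
  classical
  intro n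
  induction n with
  | zero =>
    intro S hS
    have h : ∃ k, ∃ d ∈ S, d 0 = k := by
      obtain ⟨d, hd⟩ := hS
      exact ⟨_, d, hd, rfl⟩
    obtain ⟨d₀, hd₀, hk⟩ := Nat.find_spec h
    refine ⟨1, rfl, fun _ => Nat.one_pos, d₀, hd₀, fun d hd hle => ?_⟩
    simp at hle
    have := Nat.find_min' h ⟨d, hd, rfl⟩
    funext i
    obtain rfl : i = 0 := Fin.fin_one_eq_zero i
    omega
  | succ n ih =>
    intro S hS
    obtain ⟨w', hw0, hwpos, d₁, hd₁, huniq⟩ := ih (Fin.tail '' S) (hS.image _)
    have h : ∃ k, ∃ d ∈ S, Fin.tail d = d₁ ∧ d 0 = k := by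
      obtain ⟨d, hd, e⟩ := hd₁
      exact ⟨_, d, hd, e, rfl⟩
    obtain ⟨d₀, hd₀, ht, hk⟩ := Nat.find_spec h
    let M := d₀ 0 + 1
    refine ⟨Fin.cons 1 (fun i => M * w' i), by simp, fun i => ?_, d₀, hd₀, fun d hd hle => ?_⟩
    · cases i using Fin.cases with
      | zero => simp
      | succ i =>
        rw [Fin.cons_succ]
        exact Nat.mul_pos (Nat.succ_pos _) (hwpos i)
    · have hsum : ∀ e : Fin (n + 1 + 1) → ℕ,
          ∑ i, (Fin.cons 1 (fun i => M * w' i) : Fin (n + 1 + 1) → ℕ) i * e i = e 0 + M * ∑ i, w' i * Fin.tail e i :=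
        fun e => by
          rw [Fin.sum_univ_succ, Finset.mul_sum, Fin.cons_zero, one_mul]
          congr 1
          exact Finset.sum_congr rfl fun i _ => by rw [Fin.cons_succ, mul_assoc]; rfl
      rw [hsum, hsum, ht] at hle
      have hle' : ∑ i, w' i * Fin.tail d i ≤ ∑ i, w' i * d₁ i := by
        by_contra hlt
        have h2 : M * (∑ i, w' i * d₁ i + 1) ≤ M * ∑ i, w' i * Fin.tail d i :=
          Nat.mul_le_mul_left _ (not_le.1 hlt)
        rw [mul_add, mul_one] at h2
        simp only [M] at *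
        omega
      have htd : Fin.tail d = d₁ := huniq _ ⟨d, hd, rfl⟩ hle'
      rw [htd] at hle
      have h3 := Nat.find_min' h ⟨d, hd, htd, rfl⟩
      rw [← Fin.cons_self_tail d, ← Fin.cons_self_tail d₀, htd, ht, show d 0 = d₀ 0 by omega]

variable {A : Type u} [CommRing A] {n : ℕ}

/-- The substitution `Xᵢ ↦ Xᵢ + c X₀ ^ wᵢ`, fixing `X₀`. -/
noncomputable def shear (w : Fin (n + 1) → ℕ) (c : A) : Fin (n + 1) → MvPowerSeries (Fin (n + 1)) A :=
  fun i => if i = 0 then X 0 else X i + C c * X 0 ^ w i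

theorem hasSubst_shear (w : Fin (n + 1) → ℕ) (hw : ∀ i, 0 < w i) (c : A) : HasSubst (shear w c) :=
  hasSubst_of_constantCoeff_zero fun i => by
    unfold shear
    split
    · exact constantCoeff_X _
    · simp [map_pow, zero_pow (hw i).ne']

theorem subst_shear (w : Fin (n + 1) → ℕ) (hw : ∀ i, 0 < w i) (c : A) (f : MvPowerSeries (Fin (n + 1)) A) :
    subst (shear w c) (subst (shear w (-c)) f) = f := by
  rw [subst_comp_subst_apply (hasSubst_shear w hw (-c)) (hasSubst_shear w hw c)]
  have : (fun s => subst (shear w c) (shear w (-c) s)) = (MvPowerSeries.X : Fin (n + 1) → MvPowerSeries (Fin (n + 1)) A) := by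
    funext s
    have h := hasSubst_shear w hw c
    by_cases hs : s = 0
    · subst hs; simp [shear, subst_X h]
    · have h0 : shear w c 0 = X 0 := by simp [shear]
      have hs' : shear w c s = X s + C c * X 0 ^ w s := by simp [shear, hs]
      rw [show shear w (-c) s = X s + C (-c) * X 0 ^ w s by simp [shear, hs],
        subst_add h, subst_mul h, subst_pow h, subst_X h, subst_X h, subst_C, h0, hs', map_neg, neg_mul]
      abel
  rw [this, subst_self]
  rfl

/-- The change of variables as an automorphism. -/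
noncomputable def shearEquiv (w : Fin (n + 1) → ℕ) (hw : ∀ i, 0 < w i) :
    MvPowerSeries (Fin (n + 1)) A ≃+* MvPowerSeries (Fin (n + 1)) A :=
  { (substAlgHom (R := A) (hasSubst_shear w hw (1 : A))).toRingHom with
    invFun := subst (shear w (-1))
    left_inv := fun f => by
      have := subst_shear w hw (-1 : A) f
      simpa [coe_substAlgHom, neg_neg] using this
    right_inv := fun f => by
      have := subst_shear w hw (1 : A) f
      simpa [coe_substAlgHom] using this }

theorem shearEquiv_apply (w : Fin (n + 1) → ℕ) (hw : ∀ i, 0 < w i) (f : MvPowerSeries (Fin (n + 1)) A) :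
    shearEquiv w hw f = subst (shear w 1) f := by
  show substAlgHom (hasSubst_shear w hw (1 : A)) f = _
  rw [substAlgHom_apply]

variable [IsLocalRing A]

/-- A series with some coefficient a unit becomes regular in `X₀` after a shear. -/
theorem exists_regular (f : MvPowerSeries (Fin (n + 1)) A) {d : Fin (n + 1) →₀ ℕ}
    (hd : IsUnit (coeff d f)) :
    ∃ (w : Fin (n + 1) → ℕ) (hw : ∀ i, 0 < w i) (N : ℕ),
      IsUnit (constantCoeff (PowerSeries.coeff N (finSuccEquiv A n (shearEquiv w hw f)))) := by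
  classical
  obtain ⟨w, hw0, hw, e₀, ⟨d₀, hd₀, rfl⟩, huniq⟩ := exists_weight n
    ((fun d : Fin (n + 1) →₀ ℕ => (d : Fin (n + 1) → ℕ)) '' {d | IsUnit (coeff d f)}) ⟨_, d, hd, rfl⟩
  let N := ∑ i, w i * d₀ i
  refine ⟨w, hw, N, ?_⟩
  let K : MvPowerSeries (Fin (n + 1)) A →+* PowerSeries A :=
    (PowerSeries.map (constantCoeff (σ := Fin n) (R := A))).comp (finSuccEquiv A n).toRingHom
  have hcoeff : ∀ (P : MvPowerSeries (Fin (n + 1)) A) (k : ℕ),
      PowerSeries.coeff k (K P) = coeff ((0 : Fin n →₀ ℕ).cons k) P := fun P k => by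
    show PowerSeries.coeff k (PowerSeries.map (constantCoeff (σ := Fin n) (R := A)) (finSuccEquiv A n P)) = _
    rw [PowerSeries.coeff_map, ← coeff_zero_eq_constantCoeff_apply, coeff_coeff_finSuccEquiv]
  have hK : ∀ i, K (shear w 1 i) = PowerSeries.X ^ w i := by
    intro i
    have h0 : K (X 0) = PowerSeries.X := by
      show PowerSeries.map (constantCoeff (σ := Fin n) (R := A)) (finSuccEquiv A n (X 0)) = _
      rw [finSuccEquiv_X_zero, PowerSeries.map_X]
    cases i using Fin.cases with
    | zero => simp [shear, h0, hw0]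
    | succ i =>
      have hs : K (X i.succ) = 0 := by
        show PowerSeries.map (constantCoeff (σ := Fin n) (R := A)) (finSuccEquiv A n (X i.succ)) = _
        rw [finSuccEquiv_X_succ, PowerSeries.map_C, constantCoeff_X, map_zero]
      simp [shear, Fin.succ_ne_zero, hs, h0]
  rw [shearEquiv_apply, ← coeff_zero_eq_constantCoeff_apply, coeff_coeff_finSuccEquiv,
    coeff_subst (hasSubst_shear w hw 1)]
  have hfin := coeff_subst_finite (hasSubst_shear w hw (1 : A)) f ((0 : Fin n →₀ ℕ).cons N)
  have hprod : ∀ e : Fin (n + 1) →₀ ℕ, coeff ((0 : Fin n →₀ ℕ).cons N)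
      (e.prod fun s k => shear w (1 : A) s ^ k) = if ∑ i, w i * e i = N then 1 else 0 := fun e => by
    rw [← hcoeff, Finsupp.prod_fintype _ _ (fun i => pow_zero _), map_prod]
    simp only [map_pow, hK, ← pow_mul, Finset.prod_pow_eq_pow_sum, PowerSeries.coeff_X_pow, eq_comm]
  simp only [hprod, smul_eq_mul] at hfin ⊢
  rw [finsum_eq_sum_of_support_subset _ (s := insert d₀ hfin.toFinset) (by
    intro e he; simp; right; simpa using he)]
  rw [← IsLocalRing.notMem_maximalIdeal, ← IsLocalRing.residue_eq_zero_iff, map_sum]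
  rw [Finset.sum_eq_single d₀ (fun e _ hne => ?_) (fun h => absurd (Finset.mem_insert_self _ _) h)]
  · rw [if_pos rfl, mul_one, IsLocalRing.residue_eq_zero_iff, IsLocalRing.notMem_maximalIdeal]
    exact hd₀
  · by_cases hN : ∑ i, w i * e i = N
    · rw [if_pos hN, mul_one, IsLocalRing.residue_eq_zero_iff]
      by_contra hu
      exact hne (DFunLike.coe_injective (huniq _ ⟨e, IsLocalRing.notMem_maximalIdeal.1 hu, rfl⟩ hN.le))
    · rw [if_neg hN, mul_zero, map_zero]

end Groth.Agent.RamSam24
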